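import Mathlib

/-! Basic counting lemmas for the subgroup generated by derangements. -/

set_option autoImplicit false

namespace Cfsg.Agent.DerG

open MulAction Subgroup

section act

variable {G X : Type*} [Group G] [MulAction G X]

/-- The orbit of `x` under the subgroup `K`, as a set. -/
def orb (K : Subgroup G) (x : X) : Set X := {y | ∃ k ∈ K, k • x = y}

theorem mem_orb {K : Subgroup G} {x y : X} : y ∈ orb K x ↔ ∃ k ∈ K, k • x = y := Iff.rfl

theorem self_mem_orb (K : Subgroup G) (x : X) : x ∈ orb K x := ⟨1, K.one_mem, one_smul _ _⟩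

theorem orb_eq (K : Subgroup G) (x : X) : orb K x = orbit K x := by
  ext y
  constructor
  · rintro ⟨k, hk, rfl⟩
    exact ⟨⟨k, hk⟩, rfl⟩
  · rintro ⟨k, rfl⟩
    exact ⟨k, k.2, rfl⟩

theorem ncard_orb (K : Subgroup G) (x : X) :
    (orb K x).ncard = (stabilizer G x).relIndex K := by
  rw [orb_eq, ← index_stabilizer, relIndex]
  congr 1

/-- If the stabiliser of `x` in `K` lies in `D`, the `K`-orbit splits in `|K : K ∩ D|` orbits. -/
theorem relIndex_mul_orb {K D : Subgroup G} {x : X} (h : ∀ k ∈ K, k • x = x → k ∈ D) :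
    D.relIndex K * (orb (K ⊓ D) x).ncard = (orb K x).ncard := by
  rw [ncard_orb, ncard_orb, mul_comm, ← inf_relIndex_left K D, ← inf_relIndex_left K (stabilizer G x)]
  have e : K ⊓ stabilizer G x = (K ⊓ D) ⊓ stabilizer G x :=
    le_antisymm (fun k hk => ⟨⟨hk.1, h k hk.1 hk.2⟩, hk.2⟩) fun k hk => ⟨hk.1.1, hk.2⟩
  rw [← inf_relIndex_left (K ⊓ D) (stabilizer G x), e]
  exact relIndex_mul_relIndex _ _ _ inf_le_left inf_le_left

/-- A `K`-invariant finite set whose point stabilisers in `K` lie in `D` has size divisible by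
`|K : K ∩ D|`. -/
theorem relIndex_dvd {K D : Subgroup G} {S : Set X} (hf : S.Finite)
    (hS : ∀ k ∈ K, ∀ x ∈ S, k • x ∈ S) (h : ∀ k ∈ K, ∀ x ∈ S, k • x = x → k ∈ D) :
    D.relIndex K ∣ S.ncard := by
  induction hn : S.ncard using Nat.strong_induction_on generalizing S with
  | _ n ih =>
    rcases S.eq_empty_or_nonempty with rfl | ⟨x, hx⟩
    · rw [← hn]
      simp
    have hsub : orb K x ⊆ S := by
      rintro _ ⟨k, hk, rfl⟩
      exact hS k hk x hx
    have hc := Set.ncard_sdiff_add_ncard_of_subset hsub hf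
    have hpos : 0 < (orb K x).ncard :=
      (Set.ncard_pos (hf.subset hsub)).2 ⟨x, self_mem_orb K x⟩
    have h1 := ih (S \ orb K x).ncard (by omega) hf.sdiff (fun k hk y hy => ⟨hS k hk y hy.1, by
      rintro ⟨l, hl, e⟩
      exact hy.2 ⟨k⁻¹ * l, K.mul_mem (K.inv_mem hk) hl, by rw [mul_smul, e, inv_smul_smul]⟩⟩)
      (fun k hk y hy => h k hk y hy.1) rfl
    rw [← hn, ← hc]
    exact dvd_add h1 ⟨_, (relIndex_mul_orb fun k hk => h k hk x hx).symm⟩

theorem relIndex_eq_index {K D : Subgroup G} [D.Normal] (h : K ⊔ D = ⊤) :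
    D.relIndex K = D.index := by
  rw [← relIndex_sup_right, h, relIndex_top_right]

/-- `|G : R| ≤ |G : K A| |K : K ∩ R|` for `A ≤ R ⊴ G`. -/
theorem index_le_mul [Finite G] (K : Subgroup G) {A R : Subgroup G} [R.Normal] (h : A ≤ R) :
    R.index ≤ (K ⊔ A).index * R.relIndex K := by
  rw [← relIndex_mul_index (le_sup_right : R ≤ K ⊔ R), relIndex_sup_right, mul_comm]
  exact Nat.mul_le_mul_right _ (Nat.le_of_dvd (Nat.pos_of_ne_zero index_ne_zero_of_finite)
    (index_dvd_of_le (sup_le_sup_left h K)))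

end act

/-- The numerical form of the block argument. -/
theorem sq_le_of_dvd {m b n : ℕ} (hb : 1 < b) (hbn : b < n) (hd : b ∣ n) (h1 : m ∣ b - 1)
    (h2 : m ∣ n - 1) : (m + 1) ^ 2 ≤ n := by
  obtain ⟨c, rfl⟩ := hd
  obtain ⟨b, rfl⟩ : ∃ b', b = b' + 1 := ⟨b - 1, by omega⟩
  obtain ⟨c, rfl⟩ : ∃ c', c = c' + 1 := ⟨c - 1, by
    rcases c with _ | c
    · simp at hbn
    · omega⟩
  have hc : 0 < c := by
    rcases c with _ | c
    · simp at hbn
    · omega
  simp only [Nat.add_sub_cancel] at h1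
  have e : (b + 1) * (c + 1) - 1 = b * (c + 1) + c := by
    rw [show (b + 1) * (c + 1) = b * (c + 1) + c + 1 by ring, Nat.add_sub_cancel]
  rw [e] at h2
  have h3 : m ∣ c := (Nat.dvd_add_right (h1.mul_right _)).1 h2
  have h4 := Nat.le_of_dvd (by omega) h1
  have h5 := Nat.le_of_dvd hc h3
  nlinarith

/-- `D` is a transitive normal subgroup and elements outside `D` fix at most one point. -/
structure Ex {G : Type*} [Group G] (Ω : Type*) [MulAction G Ω] (D : Subgroup G) : Prop where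
  normal : D.Normal
  trans : ∀ a b : Ω, ∃ d ∈ D, d • a = b
  one : ∀ g ∉ D, ∀ a b : Ω, g • a = a → g • b = b → a = b

/-- `P` is an abelian subgroup acting regularly. -/
structure Reg {G : Type*} [Group G] (Ω : Type*) [MulAction G Ω] (P : Subgroup G) : Prop where
  comm : ∀ x ∈ P, ∀ y ∈ P, x * y = y * x
  trans : ∀ a b : Ω, ∃ x ∈ P, x • a = b
  free : ∀ x ∈ P, ∀ a : Ω, x • a = a → x = 1

section ex

variable {G Ω : Type*} [Group G] [MulAction G Ω] {D : Subgroup G}

theorem Ex.stab_sup (h : Ex Ω D) {K : Subgroup G} (hK : K ⊔ D = ⊤) (a : Ω)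
    (ht : ∀ k ∈ K, ∃ d ∈ K ⊓ D, d • a = k • a) : (K ⊓ stabilizer G a) ⊔ D = ⊤ := by
  rw [eq_top_iff, ← hK, sup_le_iff]
  refine ⟨fun k hk => ?_, le_sup_right⟩
  obtain ⟨d, hd, e⟩ := ht k hk
  rw [← mul_inv_cancel_left d k]
  refine mul_mem (mem_sup_right hd.2) (mem_sup_left ⟨K.mul_mem (K.inv_mem hd.1) hk, ?_⟩)
  change (d⁻¹ * k) • a = a
  rw [mul_smul, ← e, inv_smul_smul]

/-- A supplement `L ≤ G_a` of `D` and an `L`-invariant set containing `a`. -/
theorem Ex.dvd_sub_one [Finite Ω] (h : Ex Ω D) {L : Subgroup G} (hL : L ⊔ D = ⊤) {a : Ω}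
    (ha : ∀ l ∈ L, l • a = a) {S : Set Ω} (haS : a ∈ S) (hS : ∀ l ∈ L, ∀ x ∈ S, l • x ∈ S) :
    D.index ∣ S.ncard - 1 := by
  have := h.normal
  rw [← relIndex_eq_index hL, ← Set.ncard_sdiff_singleton_of_mem haS]
  refine relIndex_dvd (Set.toFinite _) (fun l hl x hx => ⟨hS l hl x hx.1, fun e => hx.2 ?_⟩)
    fun l hl x hx e => ?_
  · rw [Set.mem_singleton_iff] at e ⊢
    exact smul_left_cancel l (e.trans (ha l hl).symm)
  · by_contra hn
    exact hx.2 (h.one l hn x a e (ha l hl))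

theorem Ex.dvd_card [Finite Ω] [Nonempty Ω] (h : Ex Ω D) : D.index ∣ Nat.card Ω - 1 := by
  obtain ⟨a⟩ := ‹Nonempty Ω›
  have h1 := h.stab_sup (K := ⊤) (top_sup_eq D) a fun k _ => by
    obtain ⟨d, hd, e⟩ := h.trans a (k • a)
    exact ⟨d, ⟨trivial, hd⟩, e⟩
  rw [← Set.ncard_univ]
  exact h.dvd_sub_one h1 (fun l hl => hl.2) (Set.mem_univ a) fun _ _ _ _ => trivial

end ex

section lin

variable {p : ℕ} {M V : Type*} [Group M] [AddCommGroup V] [Module (ZMod p) V]

/-- The fixed space of a set of group elements. -/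
def fx (ρ : Representation (ZMod p) M V) (S : Set M) : Submodule (ZMod p) V where
  carrier := {v | ∀ g ∈ S, ρ g v = v}
  add_mem' := fun ha hb g hg => by rw [map_add, ha g hg, hb g hg]
  zero_mem' := fun g _ => map_zero _
  smul_mem' := fun c _ ha g hg => by rw [map_smul, ha g hg]

theorem mem_fx {ρ : Representation (ZMod p) M V} {S : Set M} {v : V} :
    v ∈ fx ρ S ↔ ∀ g ∈ S, ρ g v = v := Iff.rfl

theorem mem_fx_one {ρ : Representation (ZMod p) M V} {g : M} {v : V} :
    v ∈ fx ρ {g} ↔ ρ g v = v := by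
  simp [mem_fx]

theorem rep_mul (ρ : Representation (ZMod p) M V) (a b : M) (v : V) :
    ρ (a * b) v = ρ a (ρ b v) := by
  rw [map_mul, Module.End.mul_apply]

theorem rep_inv_rep (ρ : Representation (ZMod p) M V) (a : M) (v : V) : ρ a⁻¹ (ρ a v) = v := by
  rw [← rep_mul, inv_mul_cancel, map_one, Module.End.one_apply]

theorem rep_injective (ρ : Representation (ZMod p) M V) (a : M) : Function.Injective (ρ a) :=
  fun x y e => by rw [← rep_inv_rep ρ a x, e, rep_inv_rep]

/-- The action given by a representation. -/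
@[reducible] def ract (ρ : Representation (ZMod p) M V) : MulAction M V where
  smul g v := ρ g v
  one_smul v := by
    change ρ 1 v = v
    rw [map_one, Module.End.one_apply]
  mul_smul a b v := rep_mul ρ a b v

/-- The linear situation: `A ≤ R` normal in `M`, `A` an `r`-group, elements outside `R` have no
nonzero fixed vector. -/
structure Lin (r : ℕ) (ρ : Representation (ZMod p) M V) (A R : Subgroup M) : Prop where
  inj : Function.Injective ρ
  ne : r ≠ p
  pg : IsPGroup r A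
  nA : A.Normal
  nR : R.Normal
  le : A ≤ R
  fpf : ∀ g ∉ R, ∀ v, ρ g v = v → v = 0

/-- `z` has order `r`, generates `Ω₁(Z(A))`, and `Z(A)` has no nonzero fixed vectors. -/
structure Cz (r : ℕ) (ρ : Representation (ZMod p) M V) (A : Subgroup M) (z : M) : Prop where
  mem : z ∈ A
  ord : orderOf z = r
  cen : ∀ a ∈ A, a * z = z * a
  om : ∀ c ∈ A, (∀ a ∈ A, a * c = c * a) → c ^ r = 1 → c ∈ zpowers z
  fpf : ∀ c ∈ A, (∀ a ∈ A, a * c = c * a) → c ≠ 1 → ∀ v, ρ c v = v → v = 0

/-- Elements of order dividing `r` that are central modulo `z`. -/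
def SS (r : ℕ) (A : Subgroup M) (z : M) : Set M :=
  {x | x ∈ A ∧ x ^ r = 1 ∧ ∀ a ∈ A, a * x * a⁻¹ * x⁻¹ ∈ zpowers z}

variable {r : ℕ} {ρ : Representation (ZMod p) M V} {A R : Subgroup M}

/-- Core bound: a nonzero vector of a `K`-invariant subspace. -/
theorem Lin.orb_le [Finite V] (h : Lin r ρ A R) {K : Subgroup M} {W : Submodule (ZMod p) V}
    (hW : ∀ k ∈ K, ∀ w ∈ W, ρ k w ∈ W) {v : V} (hv : v ∈ W) (h0 : v ≠ 0) :
    R.relIndex K * {w | ∃ k ∈ K ⊓ R, ρ k v = w}.ncard + 1 ≤ Nat.card W := by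
  let _ := ract ρ
  have h1 := relIndex_mul_orb (K := K) (D := R) (x := v) fun k _ e => by
    by_contra hn
    exact h0 (h.fpf k hn v e)
  change R.relIndex K * (orb (K ⊓ R) v).ncard + 1 ≤ _
  rw [h1, ← SetLike.coe_sort_coe, Nat.card_coe_set_eq,
    ← Set.ncard_sdiff_singleton_add_one (show (0 : V) ∈ (W : Set V) from W.zero_mem)]
  refine Nat.add_le_add_right (Set.ncard_le_ncard ?_ (Set.toFinite _)) 1
  rintro _ ⟨k, hk, rfl⟩
  exact ⟨hW k hk v hv, fun e => h0 (rep_injective ρ k (e.trans (map_zero _).symm))⟩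

theorem Lin.dvd_sub_one [Finite V] (h : Lin r ρ A R) {W : Submodule (ZMod p) V}
    (hW : ∀ g, ∀ w ∈ W, ρ g w ∈ W) : R.index ∣ Nat.card W - 1 := by
  let _ := ract ρ
  rw [← relIndex_top_right, ← SetLike.coe_sort_coe, Nat.card_coe_set_eq,
    ← Set.ncard_sdiff_singleton_of_mem (show (0 : V) ∈ (W : Set V) from W.zero_mem)]
  refine relIndex_dvd (Set.toFinite _) (fun k _ x hx => ⟨hW k x hx.1, fun e => hx.2
    (rep_injective ρ k (e.trans (map_zero _).symm))⟩) fun k _ x hx e => ?_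
  by_contra hn
  exact hx.2 (h.fpf k hn x e)

/-- A proper nonzero invariant subspace gives the bound. -/
theorem Lin.sq_le_of_inv [Finite V] (h : Lin r ρ A R) {W : Submodule (ZMod p) V}
    (hW : ∀ g, ∀ w ∈ W, ρ g w ∈ W) (h0 : W ≠ ⊥) (h1 : W ≠ ⊤) :
    (R.index + 1) ^ 2 ≤ Nat.card V := by
  have e : Nat.card (⊤ : Submodule (ZMod p) V) = Nat.card V :=
    Nat.card_congr Submodule.topEquiv.toEquiv
  refine sq_le_of_dvd (b := Nat.card W) ?_ ?_ W.toAddSubgroup.card_addSubgroup_dvd_card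
    (h.dvd_sub_one hW) (e ▸ h.dvd_sub_one fun _ _ _ => trivial)
  · exact Finite.one_lt_card_iff_nontrivial.2 (Submodule.nontrivial_iff_ne_bot.2 h0)
  · rw [← SetLike.coe_sort_coe, Nat.card_coe_set_eq, ← Set.ncard_univ]
    refine Set.ncard_lt_ncard (Set.ssubset_univ_iff.2 fun e => h1 ?_) (Set.toFinite _)
    exact SetLike.coe_injective e

/-- The class of `x` has `|M : C(x) A| |A : C_A(x)|` elements. -/
theorem index_mul_relIndex_le [Finite M] [A.Normal] (x : M) {T : Set M}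
    (hT : ∀ g, g * x * g⁻¹ ∈ T) :
    (centralizer {x} ⊔ A).index * (centralizer {x}).relIndex A ≤ T.ncard := by
  have h1 : (centralizer {x}).relIndex A = (centralizer {x}).relIndex (centralizer {x} ⊔ A) := by
    have a1 := relIndex_mul_relIndex _ _ _ (inf_le_left : centralizer {x} ⊓ A ≤ _)
      (le_sup_left : centralizer {x} ≤ centralizer {x} ⊔ A)
    have a2 := relIndex_mul_relIndex _ _ _ (inf_le_right : centralizer {x} ⊓ A ≤ _)
      (le_sup_right : A ≤ centralizer {x} ⊔ A)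
    rw [inf_relIndex_left] at a1
    rw [inf_relIndex_right, relIndex_sup_right, mul_comm, ← a1] at a2
    exact Nat.eq_of_mul_eq_mul_left (Nat.pos_of_ne_zero index_ne_zero_of_finite) a2
  rw [h1, mul_comm, relIndex_mul_index le_sup_left]
  have h2 := ncard_orb (G := ConjAct M) ⊤ x
  rw [relIndex_top_right] at h2
  have h3 : (stabilizer (ConjAct M) x).index = (centralizer {x}).index := by
    rw [centralizer_eq_comap_stabilizer]
    exact (index_comap_of_surjective _ (f := ConjAct.toConjAct.toMonoidHom)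
      ConjAct.toConjAct.surjective).symm
  rw [← h3, ← h2]
  refine Set.ncard_le_ncard ?_ (Set.toFinite _)
  rintro _ ⟨k, -, rfl⟩
  exact hT (ConjAct.ofConjAct k)

end lin

end Cfsg.Agent.DerG
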