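import Cfsg.Agent.DerG.Defs

/-! The subgroup generated by the derangements. See `stubs/Cfsg/Agent/DerG/PLAN.md`. -/

set_option autoImplicit false

namespace Cfsg.Agent.DerG

open MulAction Subgroup

variable {G Ω : Type*} [Group G] [Finite G] [MulAction G Ω] [Finite Ω]

theorem ex_closure [IsPretransitive G Ω] : Ex Ω (closure {g : G | ∀ ω : Ω, g • ω ≠ ω}) := by
  classical
  have hN : (closure {g : G | ∀ ω : Ω, g • ω ≠ ω}).Normal := ⟨fun n hn g => by
    refine closure_induction (fun x hx => subset_closure fun ω e => hx (g⁻¹ • ω) ?_) (by simp)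
      (fun x y _ _ hx hy => by simpa [mul_assoc] using mul_mem hx hy)
      (fun x _ hx => by simpa [mul_assoc] using inv_mem hx) hn
    rwa [mul_smul, mul_smul, ← eq_inv_smul_iff] at e⟩
  rcases isEmpty_or_nonempty Ω with h0 | h0
  · exact ⟨hN, fun a => isEmptyElim a, fun _ _ a => isEmptyElim a⟩
  have hS : ∀ g, g ∉ closure {g : G | ∀ ω : Ω, g • ω ≠ ω} → ∃ ω : Ω, g • ω = ω := fun g hg => by
    by_contra hn
    exact hg (subset_closure fun ω e => hn ⟨ω, e⟩)
  generalize closure {g : G | ∀ ω : Ω, g • ω ≠ ω} = D at hN hS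
  have := Fintype.ofFinite G
  have := Fintype.ofFinite Ω
  have b1 := sum_card_fixedBy_eq_card_orbits_mul_card_group G Ω
  have b2 := sum_card_fixedBy_eq_card_orbits_mul_card_group D Ω
  have q1 : Fintype.card (orbitRel.Quotient G Ω) ≤ 1 := Fintype.card_le_one_iff_subsingleton.2
    ((pretransitive_iff_subsingleton_quotient G Ω).1 inferInstance)
  have q2 : 0 < Fintype.card (orbitRel.Quotient D Ω) :=
    Fintype.card_pos_iff.2 (h0.elim fun a => ⟨Quotient.mk _ a⟩)
  have s1 := Fintype.sum_subtype_add_sum_subtype (· ∈ D) fun g : G => Fintype.card (fixedBy Ω g)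
  have s2 := Fintype.sum_subtype_add_sum_subtype (· ∈ D) fun _ : G => 1
  have le : ∀ g ∈ (Finset.univ : Finset {g // g ∉ D}), 1 ≤ Fintype.card (fixedBy Ω (g : G)) :=
    fun g _ => let ⟨ω, e⟩ := hS g g.2; Fintype.card_pos_iff.2 ⟨⟨ω, e⟩⟩
  have s3 := Finset.sum_le_sum le
  have e2 : ∑ g : {g // g ∈ D}, Fintype.card (fixedBy Ω (g : G)) =
      Fintype.card (orbitRel.Quotient D Ω) * ∑ _g : {g // g ∈ D}, 1 := by
    rw [Finset.sum_const, Finset.card_univ, smul_eq_mul, mul_one]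
    convert b2 using 3
    rfl
  have e1 : ∑ g : G, Fintype.card (fixedBy Ω g) ≤ ∑ _g : G, 1 := by
    rw [Finset.sum_const, Finset.card_univ, smul_eq_mul, mul_one, b1]
    exact (Nat.mul_le_mul_right _ q1).trans (one_mul _).le
  have p : 0 < ∑ _g : {g // g ∈ D}, 1 := Finset.sum_pos (fun _ _ => one_pos) ⟨⟨1, one_mem D⟩, by simp⟩
  have o1 : Fintype.card (orbitRel.Quotient D Ω) ≤ 1 := by nlinarith
  refine ⟨hN, fun a b => ?_, fun g hg a b ha hb => ?_⟩
  · have := (pretransitive_iff_subsingleton_quotient D Ω).2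
      (Fintype.card_le_one_iff_subsingleton.1 o1)
    obtain ⟨d, e⟩ := exists_smul_eq D a b
    exact ⟨d, d.2, e⟩
  · have := (Finset.sum_eq_sum_iff_of_le le).1 (by nlinarith) ⟨g, hg⟩ (Finset.mem_univ _)
    exact congrArg Subtype.val ((Fintype.card_le_one_iff_subsingleton.1 this.ge).elim
      (⟨a, ha⟩ : fixedBy Ω g) ⟨b, hb⟩)

theorem Ex.prim {D : Subgroup G} (h : Ex Ω D) (hn : Nat.card Ω < (D.index + 1) ^ 2) :
    IsPreprimitive G Ω := by
  have : IsPretransitive G Ω := ⟨fun a b => let ⟨d, _, e⟩ := h.trans a b; ⟨d, e⟩⟩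
  refine ⟨fun {B} hB => ?_⟩
  by_contra h0
  rw [IsTrivialBlock, not_or, Set.not_subsingleton_iff] at h0
  obtain ⟨a, ha⟩ := h0.1.nonempty
  have : Nonempty Ω := ⟨a⟩
  have h1 := h.stab_sup (K := ⊤) (top_sup_eq D) a fun k _ => by
    obtain ⟨d, hd, e⟩ := h.trans a (k • a)
    exact ⟨d, ⟨trivial, hd⟩, e⟩
  refine hn.not_ge (sq_le_of_dvd (b := B.ncard) ((Set.one_lt_ncard_iff_nontrivial).2 h0.1) ?_
    (hB.ncard_dvd_card ⟨a, ha⟩) (h.dvd_sub_one h1 (fun l hl => hl.2) ha fun l hl x hx => ?_)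
    h.dvd_card)
  · rw [← Set.ncard_univ]
    exact Set.ncard_lt_ncard (Set.ssubset_univ_iff.2 h0.2) (Set.toFinite _)
  · have e : l • a = a := hl.2
    rw [← hB.smul_eq_of_mem ha (g := l) (e.symm ▸ ha)]
    exact Set.smul_mem_smul_set hx

end Cfsg.Agent.DerG
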