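import Mathlib
import Cfsg.Agent.DerG.Defs
import Cfsg.Agent.GT.PiGroups

/-! A regular abelian subgroup with trivial intersections: centralizers and the fixity count. -/

set_option autoImplicit false
set_option linter.unusedSectionVars false

namespace Cfsg.Agent.DerG

open MulAction Subgroup

variable {G Ω : Type*} [Group G] [Finite G] [MulAction G Ω] [Finite Ω]

namespace Fix

omit [Finite G] [Finite Ω] in
theorem compl {P : Subgroup G} (hP : Reg Ω P) (a : Ω) : IsComplement' P (stabilizer G a) :=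
  isComplement'_stabilizer a (fun h e => Subtype.ext (hP.free h h.2 a e)) fun g =>
    let ⟨x, hx, e⟩ := hP.trans (g • a) a
    ⟨⟨x, hx⟩, e⟩

omit [Finite G] [Finite Ω] in
theorem card_eq {P : Subgroup G} (hP : Reg Ω P) (a : Ω) : Nat.card P = Nat.card Ω := by
  refine Nat.card_congr (Equiv.ofBijective (fun x : P => (x : G) • a) ⟨fun x y e => ?_, fun b => ?_⟩)
  · have := hP.free ((y : G)⁻¹ * x) (mul_mem (inv_mem y.2) x.2) a (by
      rw [mul_smul, show (x : G) • a = (y : G) • a from e, inv_smul_smul])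
    exact Subtype.ext (inv_mul_eq_one.1 this).symm
  · obtain ⟨x, hx, e⟩ := hP.trans a b
    exact ⟨⟨x, hx⟩, e⟩

omit [Finite G] [Finite Ω] in
/-- A nontrivial element of the normalizer fixes at most one point. -/
theorem two {P : Subgroup G} (hP : Reg Ω P) (hC : ∀ x ∈ P, x ≠ 1 → ∀ g, g * x = x * g → g ∈ P) {u : G}
    (hu : u ∈ normalizer (P : Set G)) {a b : Ω} (ha : u • a = a) (hb : u • b = b) (h : b ≠ a) : u = 1 := by
  obtain ⟨x, hx, rfl⟩ := hP.trans a b
  have h1 : x ≠ 1 := fun e => h (by rw [e, one_smul])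
  have h2 := hP.free (x⁻¹ * (u * x * u⁻¹)) (mul_mem (inv_mem hx) ((mem_normalizer_iff.1 hu x).1 hx)) a (by
    rw [mul_smul, mul_smul, inv_smul_eq_iff.2 ha.symm, mul_smul, hb, inv_smul_smul])
  exact hP.free u (hC x hx h1 u (mul_inv_eq_iff_eq_mul.1 (inv_mul_eq_one.1 h2).symm)) a ha

end Fix

theorem Reg.cen_le [FaithfulSMul G Ω] {p : ℕ} [Fact p.Prime] (P : Sylow p G)
    (hP : Reg Ω (P : Subgroup G))
    (hf : ∀ g ∈ normalizer ((P : Subgroup G) : Set G), ∀ x ∈ (P : Subgroup G), x ≠ 1 →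
      g * x = x * g → g ∈ (P : Subgroup G)) :
    ∀ x ∈ (P : Subgroup G), x ≠ 1 → ∀ g, g * x = x * g → g ∈ (P : Subgroup G) := by
  intro x hx h1 g hg
  set C := centralizer ({x} : Set G)
  have hle : (P : Subgroup G) ≤ C := fun y hy => mem_centralizer_singleton_iff.2 (hP.comm y hy x hx)
  let Q : Sylow p C := P.subtype hle
  have hQ : ∀ y : C, y ∈ (Q : Subgroup C) ↔ (y : G) ∈ (P : Subgroup G) := fun y => Iff.rfl
  have hN : normalizer ((Q : Subgroup C) : Set C) ≤ centralizer ((Q : Subgroup C) : Set C) := fun y hy => by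
    have h2 : (y : G) ∈ normalizer ((P : Subgroup G) : Set G) :=
      mem_normalizer_fintype fun n hn => (hQ _).1 ((mem_normalizer_iff.1 hy ⟨n, hle hn⟩).1 hn)
    exact fun z hz => Subtype.ext (hP.comm z hz y (hf y h2 x hx h1 (mem_centralizer_singleton_iff.1 y.2)))
  have hc := MonoidHom.ker_transferSylow_isComplement' Q hN
  have hR : Reg Ω (Q : Subgroup C) := ⟨fun y hy z hz => Subtype.ext (hP.comm y hy z hz), fun a b =>
    let ⟨y, hy, e⟩ := hP.trans a b
    ⟨⟨y, hle hy⟩, hy, e⟩, fun y hy a e => Subtype.ext (hP.free y hy a e)⟩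
  have hs : ∀ a : Ω, stabilizer C a ≤ (MonoidHom.transferSylow Q hN).ker := fun a => by
    refine GT.le_of_coprime_card_index ?_
    rw [← (Fix.compl hR a).symm.index_eq_card, hc.symm.index_eq_card]
    exact Q.card_coprime_index.symm
  have hU : (MonoidHom.transferSylow Q hN).ker = ⊥ := eq_bot_iff.2 fun u hu => by
    refine Subtype.ext (eq_of_smul_eq_smul (α := Ω) fun a => ?_)
    obtain ⟨y, hy, e⟩ := hR.trans a (u • a)
    have h3 : y⁻¹ * u ∈ stabilizer C a := by rw [mem_stabilizer_iff, mul_smul, ← e, inv_smul_smul]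
    have h4 : y = 1 := disjoint_def.1 hc.disjoint (inv_mem_iff.1 ((mul_mem_cancel_right hu).1 (hs a h3))) hy
    rw [h4] at e
    exact e.symm
  have := hc.sup_eq_top
  rw [hU, bot_sup_eq] at this
  exact (hQ ⟨g, mem_centralizer_singleton_iff.2 hg⟩).1 (this ▸ mem_top _)

omit [Finite G] [Finite Ω] in
theorem Fix.ncard_orb {P : Subgroup G} (hP : Reg Ω P)
    (hC : ∀ x ∈ P, x ≠ 1 → ∀ g, g * x = x * g → g ∈ P) {K : Subgroup G}
    (hK : K ≤ normalizer (P : Set G)) {a b : Ω} (ha : ∀ k ∈ K, k • a = a) (hb : b ≠ a) :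
    (orb K b).ncard = Nat.card K := by
  have : (stabilizer G b).subgroupOf K = ⊥ := eq_bot_iff.2 fun k hk =>
    Subtype.ext (Fix.two hP hC (hK k.2) (ha k k.2) hk hb)
  rw [DerG.ncard_orb, relIndex, this, index_bot]

theorem Reg.ncard_orb {P : Subgroup G} (hP : Reg Ω P)
    (hC : ∀ x ∈ P, x ≠ 1 → ∀ g, g * x = x * g → g ∈ P) {K : Subgroup G}
    (hK : K ≤ normalizer (P : Set G)) {a b : Ω} (ha : ∀ k ∈ K, k • a = a) (hb : b ≠ a) :
    (orb K b).ncard = Nat.card K := Fix.ncard_orb hP hC hK ha hb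

namespace Fix

variable {P : Subgroup G} (hP : Reg Ω P) (hC : ∀ x ∈ P, x ≠ 1 → ∀ g, g * x = x * g → g ∈ P) {a : Ω} {t : ℕ}

include hP hC

omit [Finite G] in
/-- The orbits of the stabilizer are the orbits of its normalizing part. -/
theorem orb_same (ht : Nat.card Ω = t * Nat.card ↥(normalizer (P : Set G) ⊓ stabilizer G a) + 1)
    (hr : Nat.card (orbitRel.Quotient (stabilizer G a) Ω) = t + 1) {b : Ω} (hb : b ≠ a) {g : G} (hg : g • a = a) :
    ∃ u ∈ normalizer (P : Set G) ⊓ stabilizer G a, u • b = g • b := by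
  classical
  set K := normalizer (P : Set G) ⊓ stabilizer G a
  set H := stabilizer G a
  have := Fintype.ofFinite (orbitRel.Quotient H Ω)
  have hsub : ∀ c : Ω, orb K c ⊆ orbit H c := fun c => by
    rw [← orb_eq]
    rintro _ ⟨k, hk, rfl⟩
    exact ⟨k, hk.2, rfl⟩
  have hK : ∀ c : Ω, c ≠ a → (orb K c).ncard = Nat.card K := fun c hc =>
    Fix.ncard_orb hP hC inf_le_left (fun k hk => hk.2) hc
  have oa : orbit H a = {a} := by
    ext c
    exact ⟨fun ⟨k, e⟩ => e.symm.trans k.2, fun e => (show c = a from e) ▸ mem_orbit_self c⟩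
  have h1 : ∑ q : orbitRel.Quotient H Ω, q.orbit.ncard = Nat.card Ω := by
    rw [Nat.card_congr (selfEquivSigmaOrbits' H Ω), Nat.card_sigma]
    rfl
  rw [← Finset.add_sum_erase _ _ (Finset.mem_univ (Quotient.mk'' a : orbitRel.Quotient H Ω)),
    orbitRel.Quotient.orbit_mk, oa, Set.ncard_singleton, ht, add_comm, Nat.add_right_cancel_iff] at h1
  have hne : ∀ c : Ω, (Quotient.mk'' c : orbitRel.Quotient H Ω) ≠ Quotient.mk'' a ↔ c ≠ a := fun c => by
    rw [Ne, Quotient.eq'', orbitRel_apply, oa, Set.mem_singleton_iff]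
  have h2 := (Finset.sum_eq_sum_iff_of_le (s := Finset.univ.erase (Quotient.mk'' a : orbitRel.Quotient H Ω))
    (f := fun _ => Nat.card K) (g := fun q => (orbitRel.Quotient.orbit q).ncard) fun q hq => by
      induction q using Quotient.inductionOn' with
      | h c =>
        rw [← hK c ((hne c).1 (Finset.ne_of_mem_erase hq))]
        exact Set.ncard_le_ncard (hsub c) (Set.toFinite _)).1 (by
    rw [h1, Finset.sum_const, Finset.card_erase_of_mem (Finset.mem_univ _), Finset.card_univ,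
      ← Nat.card_eq_fintype_card, hr, Nat.add_sub_cancel, smul_eq_mul])
    (Quotient.mk'' b) (Finset.mem_erase.2 ⟨(hne b).2 hb, Finset.mem_univ _⟩)
  have h3 : orb K b = orbit H b :=
    Set.eq_of_subset_of_ncard_le (hsub b) (by rw [hK b hb]; exact h2.ge) (Set.toFinite _)
  exact mem_orb.1 (h3 ▸ mem_orbit b (⟨g, hg⟩ : H))

/-- A nontrivial element fixes fewer than `k` points. -/
theorem fix_lt [FaithfulSMul G Ω]
    (ho : ∀ b ≠ a, ∀ g : G, g • a = a → ∃ u ∈ normalizer (P : Set G) ⊓ stabilizer G a, u • b = g • b)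
    {g : G} (hg : g ≠ 1) :
    Nat.card (fixedBy Ω g) + 1 ≤ Nat.card ↥(normalizer (P : Set G) ⊓ stabilizer G a) := by
  obtain ⟨b, hb⟩ : ∃ b : Ω, g • b ≠ b := by
    by_contra! h
    exact hg (eq_of_smul_eq_smul (α := Ω) fun b => by rw [h, one_smul])
  have h1 : ∀ w : fixedBy Ω g, ∃ u ∈ normalizer (P : Set G), u • (w : Ω) = w ∧ u • b = g • b := fun w => by
    obtain ⟨x, hx, e⟩ := hP.trans a w
    have hw : g • (w : Ω) = w := w.2
    obtain ⟨u, hu, e'⟩ := ho (x⁻¹ • b) (fun h => hb (by rw [inv_smul_eq_iff.1 h, e, hw])) (x⁻¹ * g * x)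
      (by rw [mul_smul, mul_smul, e, hw, ← e, inv_smul_smul])
    refine ⟨x * u * x⁻¹, mul_mem (mul_mem (le_normalizer hx) hu.1) (le_normalizer (inv_mem hx)), ?_, ?_⟩
    · rw [← e, mul_smul, inv_smul_smul, mul_smul, show u • a = a from hu.2]
    · rw [mul_smul, mul_smul, e', mul_smul, mul_smul, smul_inv_smul, smul_inv_smul]
  choose u u1 u2 u3 using h1
  obtain ⟨y, hy, ey⟩ := hP.trans b (g • b)
  obtain ⟨x, hx, ex⟩ := hP.trans a b
  have hm : ∀ w, x⁻¹ * (y⁻¹ * u w) * x ∈ normalizer (P : Set G) ⊓ stabilizer G a := fun w =>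
    ⟨mul_mem (mul_mem (le_normalizer (inv_mem hx)) (mul_mem (le_normalizer (inv_mem hy)) (u1 w))) (le_normalizer hx),
      show _ • a = a by rw [mul_smul, mul_smul, mul_smul, ex, u3, ← ey, inv_smul_smul, ← ex, inv_smul_smul]⟩
  let φ : Option (fixedBy Ω g) → ↥(normalizer (P : Set G) ⊓ stabilizer G a) := fun o => o.elim 1 fun w => ⟨_, hm w⟩
  have h2 : ∀ w, φ (some w) ≠ φ none := fun w e => by
    have e1 : x⁻¹ * (y⁻¹ * u w) * x = 1 := congrArg Subtype.val e
    have e2 : y = u w := inv_mul_eq_one.1 (by simpa [mul_assoc] using congrArg (fun z => x * z * x⁻¹) e1)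
    exact hb (by rw [← ey, hP.free y hy w (e2 ▸ u2 w), one_smul])
  have h3 : Function.Injective φ := by
    rintro (_ | w) (_ | w') e
    · rfl
    · exact (h2 w' e.symm).elim
    · exact (h2 w e).elim
    · have e1 : x⁻¹ * (y⁻¹ * u w) * x = x⁻¹ * (y⁻¹ * u w') * x := congrArg Subtype.val e
      have e2 : u w = u w' := by simpa using e1
      by_contra hn
      have := Fix.two hP hC (u1 w) (u2 w) (e2 ▸ u2 w') fun e3 => hn (congrArg some (Subtype.ext e3.symm))
      exact hb (by rw [← u3 w, this, one_smul])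
  have := Nat.card_le_card_of_injective φ h3
  rwa [Finite.card_option] at this

omit [Finite Ω] in
/-- The stabilizer is at least as large as the set. -/
theorem card_le (hn : ¬ P.Normal) (a : Ω) : Nat.card Ω ≤ Nat.card (stabilizer G a) := by
  obtain ⟨g, hg⟩ : ∃ g, g ∉ normalizer (P : Set G) := by
    by_contra! h
    exact hn (normalizer_eq_top_iff.1 (eq_top_iff.2 fun g _ => h g))
  rw [← card_eq hP a, ← (compl hP a).symm.index_eq_card, index]
  refine Nat.card_le_card_of_injective (fun x : P => (((x : G) * g : G) : G ⧸ P)) fun x y e => ?_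
  have h1 : g⁻¹ * ((x : G)⁻¹ * y) * g ∈ P := by simpa [mul_assoc] using QuotientGroup.eq.1 e
  by_contra hxy
  have h2 : g⁻¹ * ((x : G)⁻¹ * y) * g ≠ 1 := fun e => hxy (Subtype.ext (inv_mul_eq_one.1 (by
    simpa [mul_assoc] using congrArg (fun z => g * z * g⁻¹) e)))
  refine hg (inv_mem_iff.1 (mem_normalizer_fintype fun n hn => hC _ h1 h2 _ ?_))
  calc g⁻¹ * n * g⁻¹⁻¹ * (g⁻¹ * ((x : G)⁻¹ * y) * g) = g⁻¹ * (n * ((x : G)⁻¹ * y)) * g := by group
    _ = _ := by rw [hP.comm n hn _ (mul_mem (inv_mem x.2) y.2)]; group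

end Fix

theorem Reg.fix_bound [FaithfulSMul G Ω] {P : Subgroup G} (hP : Reg Ω P)
    (hC : ∀ x ∈ P, x ≠ 1 → ∀ g, g * x = x * g → g ∈ P) (hn : ¬ P.Normal) (a : Ω) {t : ℕ}
    (ht : Nat.card Ω = t * Nat.card ↥(normalizer (P : Set G) ⊓ stabilizer G a) + 1)
    (hr : Nat.card (orbitRel.Quotient (stabilizer G a) Ω) = t + 1) :
    t + 2 ≤ Nat.card ↥(normalizer (P : Set G) ⊓ stabilizer G a) := by
  classical
  have h0 : t ≠ 0 := by
    rintro rfl
    rw [zero_mul, zero_add, ← Fix.card_eq hP a, Subgroup.card_eq_one] at ht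
    exact hn (ht ▸ normal_bot)
  have h1 := fun g (hg : g ≠ 1) =>
    Fix.fix_lt hP hC (fun b hb g hg => Fix.orb_same hP hC ht hr hb hg) hg
  have h2 := Fix.card_le hP hC hn a
  set H := stabilizer G a
  have := Fintype.ofFinite H
  have := Fintype.ofFinite (orbitRel.Quotient H Ω)
  have := fun g : H => Fintype.ofFinite (fixedBy Ω g)
  have h3 := sum_card_fixedBy_eq_card_orbits_mul_card_group H Ω
  simp only [← Nat.card_eq_fintype_card] at h3
  by_contra! hk
  have h4 : ∑ g ∈ Finset.univ.erase (1 : H), Nat.card (fixedBy Ω g) ≤ (Nat.card H - 1) * t := by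
    refine (Finset.sum_le_card_nsmul _ _ t fun g hg => ?_).trans ?_
    · have := h1 g fun e => Finset.ne_of_mem_erase hg (Subtype.ext e)
      change Nat.card (fixedBy Ω (g : G)) ≤ t
      omega
    · rw [Finset.card_erase_of_mem (Finset.mem_univ _), Finset.card_univ, ← Nat.card_eq_fintype_card, smul_eq_mul]
  rw [← Finset.add_sum_erase _ _ (Finset.mem_univ (1 : H)), hr] at h3
  have h5 : Nat.card (fixedBy Ω (1 : H)) ≤ Nat.card Ω := Nat.card_le_card_of_injective _ Subtype.val_injective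
  obtain ⟨h, e⟩ : ∃ h, Nat.card H = h + 1 := ⟨_, (Nat.succ_pred_eq_of_pos Nat.card_pos).symm⟩
  rw [e] at h2 h3 h4
  rw [Nat.add_sub_cancel] at h4
  have : 1 ≤ t := Nat.one_le_iff_ne_zero.2 h0
  nlinarith

end Cfsg.Agent.DerG
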