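import Cfsg.Agent.DerG.LinF
import Cfsg.Agent.GT.PGroupCyclicNormal

set_option autoImplicit false
set_option linter.unusedSectionVars false

namespace Cfsg.Agent.DerG

open MulAction Subgroup

variable {p r : ℕ} [Fact p.Prime] [Fact r.Prime] {M V : Type*} [Group M] [Finite M]
  [AddCommGroup V] [Module (ZMod p) V] [Finite V] {ρ : Representation (ZMod p) M V}
  {A R : Subgroup M} {z : M}

omit [Finite V] in
/-- A noncentral element of `SS`. -/
theorem Lin.exists_SS (h : Lin r ρ A R) (hz : Cz r ρ A z) (hr : r ≠ 2) (hc : ¬ IsCyclic A) :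
    ∃ b ∈ SS r A z, b ∉ zpowers z := by
  obtain ⟨B, hn, he, hB⟩ := GT.PG.exists_normal_elementary_sq_of_odd hr h.pg hc
  have hZ : ((zpowers z).subgroupOf A).Normal := ⟨fun c hc a => by
    rw [mem_subgroupOf] at hc ⊢
    rwa [coe_mul, coe_mul, hz.cen' hc a a.2, coe_inv, mul_inv_cancel_right]⟩
  have hne : B.map (QuotientGroup.mk' ((zpowers z).subgroupOf A)) ≠ ⊥ := fun e => by
    rw [Subgroup.map_eq_bot_iff, QuotientGroup.ker_mk'] at e
    have h1 := card_le_of_le e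
    rw [hB, Nat.card_congr (subgroupOfEquivOfLe hz.zpowers_le).toEquiv, Nat.card_zpowers, hz.ord] at h1
    have := (Fact.out : r.Prime).one_lt
    nlinarith
  have := hn.map _ (QuotientGroup.mk'_surjective ((zpowers z).subgroupOf A))
  obtain ⟨_, ⟨b, hb, rfl⟩, h1, h2, -⟩ := GT.PG.exists_mem_center_of_normal (h.pg.to_quotient _) _ hne
  refine ⟨b, ⟨b.2, congrArg Subtype.val (he.2 b hb), fun a ha => ?_⟩, fun e => h2 ((QuotientGroup.eq_one_iff _).2 e)⟩
  have e : QuotientGroup.mk' ((zpowers z).subgroupOf A) (⟨a, ha⟩ * b * (⟨a, ha⟩ : A)⁻¹ * b⁻¹) = 1 := by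
    rw [map_mul, map_mul, map_mul, map_inv, map_inv, mem_center_iff.1 h1, mul_inv_cancel_right, mul_inv_cancel]
  exact mem_subgroupOf.1 ((QuotientGroup.eq_one_iff _).1 e)

omit [Finite M] in
theorem Cz.cube (hz : Cz r ρ A z) (hr : r ≠ 2) {y a : M} (hy : y ∈ SS r A z) (ha : a ∈ A) (hn : a * y ≠ y * a) :
    Nat.card (fx ρ {y}) ^ 3 ≤ Nat.card V := by
  obtain ⟨c, hc, e⟩ : ∃ c ∈ zpowers z, a * y = c * y * a := ⟨_, hy.2.2 a ha, by group⟩
  have c1 : c ≠ 1 := fun e1 => hn (by rw [e, e1, one_mul])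
  have c2 : c * c ≠ 1 := fun e2 => by
    have h1 : c ^ r = 1 := by
      obtain ⟨k, rfl⟩ := mem_zpowers_iff.1 hc
      rw [← zpow_natCast, ← zpow_mul, mul_comm, zpow_mul, zpow_natCast, hz.pow_eq, one_zpow]
    have h2 := orderOf_dvd_of_pow_eq_one ((sq c).trans e2)
    rw [orderOf_eq_prime h1 c1] at h2
    exact hr ((Nat.prime_dvd_prime_iff_eq Fact.out Nat.prime_two).1 h2)
  have cy := hz.cen' hc y hy.1
  have ca := hz.cen' hc a ha
  refine cube_le (ρ := ρ) _ a (a * a) fun u hu v hv w hw e0 => ?_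
  rw [mem_fx_one] at hu hv hw
  have h1 : ρ a v ∈ fx ρ {c * y} := by rw [mem_fx_one, ← rep_mul, ← e, rep_mul, hv]
  have h2 : ρ (a * a) w ∈ fx ρ {c * (c * y)} := by
    have : c * (c * y) * (a * a) = a * a * y := by
      rw [mul_assoc a, e, ← mul_assoc a, ← mul_assoc a, ca, mul_assoc c a, e]
      simp only [mul_assoc]
    rw [mem_fx_one, ← rep_mul, this, rep_mul, hw]
  have h3 := sub_mem (fx_inv (k := y) (fun g hg => by rw [show g = _ from hg, ← mul_assoc y, cy]) h1) h1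
  have h4 := sub_mem (fx_inv (k := y) (fun g hg => by
    rw [show g = _ from hg, ← mul_assoc y, cy, mul_assoc c y, ← mul_assoc y, cy, mul_assoc c]) h2) h2
  have e1 : ρ y (ρ (a * a) w) - ρ (a * a) w = -(ρ y (ρ a v) - ρ a v) := by
    have := congrArg (ρ y) e0
    rw [map_add, map_add, hu, map_zero, ← e0] at this
    linear_combination (norm := abel1) this
  have e2 : ρ y (ρ (a * a) w) - ρ (a * a) w = 0 := hz.fpf' hc c1 (by
    conv_lhs => rw [e1, ← mem_fx_one.1 (neg_mem h3), ← e1, ← rep_mul]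
    exact mem_fx_one.1 h4)
  rw [e2, eq_comm, neg_eq_zero, sub_eq_zero] at e1
  rw [sub_eq_zero] at e2
  rw [mem_fx_one, rep_mul, e1] at h1
  rw [mem_fx_one, ← mul_assoc, rep_mul, e2] at h2
  exact ⟨rep_injective ρ a ((hz.fpf' hc c1 h1).trans (map_zero _).symm),
    rep_injective ρ _ ((hz.fpf' (mul_mem hc hc) c2 h2).trans (map_zero _).symm)⟩

theorem Lin.odd (h : Lin r ρ A R) (hz : Cz r ρ A z) (hr : r ≠ 2) {x : M} (hx : x ∈ A)
    (h1 : x ≠ 1) {v : V} (hv : v ≠ 0) (hxv : ρ x v = v) :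
    ∃ w, w ^ 3 ≤ Nat.card V ∧ R.index + 1 ≤ Module.finrank (ZMod p) V ^ 2 * w := by
  have := h.nA
  have := h.nR
  have : Nontrivial V := ⟨v, 0, hv⟩
  obtain ⟨b, hb, nb⟩ := h.exists_SS hz hr fun hc => hv (hz.fpf x hx (fun a ha =>
    congrArg Subtype.val (hc.isMulCommutative.is_comm.comm (⟨a, ha⟩ : A) ⟨x, hx⟩)) h1 v hxv)
  obtain ⟨u, u0, hu⟩ | ⟨i, u, u0, hu⟩ := exists_fixed ρ h.ne hz.ord hb.2.1 (hz.cen b hb.1).symm
  · exact (u0 (hz.fpf' (mem_zpowers z) hz.ne_one hu)).elim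
  have zi : z ^ i ∈ zpowers z := pow_mem (mem_zpowers z) i
  have hy := hz.mul_mem_SS hb zi
  have ny : b * z ^ i ∉ zpowers z := fun e => nb ((mul_mem_cancel_right zi).1 e)
  generalize b * z ^ i = y at hu hy ny
  obtain ⟨a, ha, hn⟩ := hz.exists_not_comm hy.1 hy.2.1 ny
  refine ⟨_, hz.cube hr hy ha hn, ?_⟩
  have h2 := (index_mul_relIndex_le (A := A) y fun g => hz.conj_mem_SS g hy).trans (h.ncard_SS_le hz)
  have h3 : r ≤ (centralizer {y}).relIndex A := by
    obtain ⟨n, e⟩ := h.pg.index ((centralizer {y}).subgroupOf A)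
    rcases n with _ | n
    · exact (hn (mem_centralizer_singleton_iff.1 (relIndex_eq_one.1 e ha))).elim
    · exact Nat.le_of_dvd (Nat.pos_of_ne_zero index_ne_zero_of_finite) ((dvd_pow_self r n.succ_ne_zero).trans e.symm.dvd)
  have h4 := index_le_mul (centralizer {y}) h.le
  have h5 := h.orb_le (K := centralizer {y}) (W := fx ρ {y})
    (fun k hk w hw => fx_inv (mem_centralizer_iff.1 hk) hw) (mem_fx_one.2 hu) u0
  have h6 : 0 < {w | ∃ k ∈ centralizer {y} ⊓ R, ρ k u = w}.ncard :=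
    (Set.ncard_pos (Set.toFinite _)).2 ⟨_, 1, one_mem _, rfl⟩
  have h7 : 0 < (centralizer {y} ⊔ A).index := Nat.pos_of_ne_zero index_ne_zero_of_finite
  have h8 : (centralizer {y} ⊔ A).index ≤ Module.finrank (ZMod p) V ^ 2 :=
    Nat.le_of_mul_le_mul_left ((mul_comm _ _).le.trans ((Nat.mul_le_mul_left _ h3).trans h2)) (Fact.out : r.Prime).pos
  have h9 : R.relIndex (centralizer {y}) + 1 ≤ Nat.card (fx ρ {y}) :=
    (Nat.add_le_add_right (Nat.le_mul_of_pos_right _ h6) 1).trans h5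
  nlinarith

end Cfsg.Agent.DerG
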