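import Cfsg.Agent.DerG.LinF

set_option autoImplicit false

namespace Cfsg.Agent.DerG

open MulAction Subgroup

variable {p : ℕ} [Fact p.Prime] {M V : Type*} [Group M] [Finite M]
  [AddCommGroup V] [Module (ZMod p) V] [Finite V] {ρ : Representation (ZMod p) M V}
  {A R : Subgroup M} {z : M}

namespace LinT

omit [Finite M] [Finite V]

theorem sgn (hz : Cz 2 ρ A z) {u a : M} (hu : u ∈ SS 2 A z) (ha : a ∈ A) :
    u * a = a * u ∨ u * a = z * (a * u) := by
  rcases hz.mem_two.1 (hu.2.2 _ (A.inv_mem ha)) with h | h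
  · left
    calc u * a = a * (a⁻¹ * u * a⁻¹⁻¹ * u⁻¹) * u := by group
      _ = a * u := by rw [h, mul_one]
  · right
    calc u * a = a * (a⁻¹ * u * a⁻¹⁻¹ * u⁻¹) * u := by group
      _ = z * (a * u) := by rw [h, hz.cen a ha, mul_assoc]

theorem zz (hz : Cz 2 ρ A z) (g : M) : z * (z * g) = g := by
  rw [← mul_assoc, ← sq, hz.pow_eq, one_mul]

theorem ex_sign (hz : Cz 2 ρ A z) {x y : M} (hx : x ∈ SS 2 A z) (hy : y ∈ SS 2 A z)
    (hxy : x * y = y * x) (hx1 : x ∉ zpowers z) (hxy1 : x * y ∉ zpowers z) :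
    ∃ a ∈ A, x * a = z * (a * x) ∧ y * a = a * y := by
  obtain ⟨a, ha, ha'⟩ := hz.exists_not_comm hx.1 hx.2.1 hx1
  obtain ⟨c, hc, hc'⟩ := hz.exists_not_comm (A.mul_mem hx.1 hy.1)
    (by rw [Commute.mul_pow hxy, hx.2.1, hy.2.1, one_mul]) hxy1
  have a1 := (sgn hz hx ha).resolve_left fun e => ha' e.symm
  rcases sgn hz hy ha with a2 | a2
  · exact ⟨a, ha, a1, a2⟩
  rcases sgn hz hx hc with c1 | c1 <;> rcases sgn hz hy hc with c2 | c2
  · exact absurd (by rw [mul_assoc, c2, ← mul_assoc, ← mul_assoc, c1]) hc'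
  · refine ⟨a * c, A.mul_mem ha hc, ?_, ?_⟩
    · rw [← mul_assoc, a1, mul_assoc, mul_assoc, c1, mul_assoc]
    · rw [← mul_assoc, a2, mul_assoc, mul_assoc, c2, ← mul_assoc a, hz.cen a ha, mul_assoc z, zz hz,
        mul_assoc]
  · exact ⟨c, hc, c1, c2⟩
  · exact absurd (by
      rw [mul_assoc, c2, ← mul_assoc x, hz.cen x hx.1, mul_assoc, ← mul_assoc x, c1, mul_assoc, zz hz,
        mul_assoc]) hc'

theorem plus {u a : M} (h : u * a = a * u) {v : V} (hv : ρ u v = v) : ρ u (ρ a v) = ρ a v := by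
  rw [← rep_mul, h, rep_mul, hv]

theorem minus (hz : Cz 2 ρ A z) {u a : M} (h : u * a = z * (a * u)) {v : V} (hv : ρ u v = v) :
    ρ u (ρ a v) = -ρ a v := by
  rw [← rep_mul, h, rep_mul, rep_mul, hv, hz.neg]

end LinT

open LinT

theorem LinT.core [Nontrivial V] (h : Lin 2 ρ A R) (hz : Cz 2 ρ A z) {x y : M}
    (hx : x ∈ SS 2 A z) (hy : y ∈ SS 2 A z) (hxy : x * y = y * x) (hx1 : x ∉ zpowers z)
    (hy1 : y ∉ zpowers z) (hxy1 : x * y ∉ zpowers z) {v : V} (h0 : v ≠ 0) (vx : ρ x v = v)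
    (vy : ρ y v = v) :
    ∃ w, w ^ 3 ≤ Nat.card V ∧ R.index + 1 ≤ 4 * Module.finrank (ZMod p) V ^ 4 * w := by
  have := h.nA
  have := h.nR
  obtain ⟨a, -, a1, a2⟩ := ex_sign hz hx hy hxy hx1 hxy1
  obtain ⟨b, -, b1, b2⟩ := ex_sign hz hy hx hxy.symm hy1 (hxy ▸ hxy1)
  have mx : x ∈ ({x, y} : Set M) := Set.mem_insert _ _
  have my : y ∈ ({x, y} : Set M) := Set.mem_insert_of_mem _ rfl
  refine ⟨Nat.card (fx ρ {x, y}), cube_le (ρ := ρ) _ a b fun u hu v hv w hw e => ⟨?_, ?_⟩, ?_⟩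
  · have e1 := congrArg (ρ x) e
    rw [map_add, map_add, map_zero, hu x mx, minus hz a1 (hv x mx), plus b2 (hw x mx), ← e] at e1
    exact rep_injective ρ a ((h.eq_zero_of_neg (add_left_cancel (add_right_cancel e1))).trans
      (map_zero _).symm)
  · have e1 := congrArg (ρ y) e
    rw [map_add, map_add, map_zero, hu y my, plus a2 (hv y my), minus hz b1 (hw y my), ← e] at e1
    exact rep_injective ρ b ((h.eq_zero_of_neg (add_left_cancel e1)).trans (map_zero _).symm)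
  have hS := h.ncard_SS_le hz
  have hi : ∀ u ∈ SS 2 A z, (centralizer {u}).index ≤ 2 * Module.finrank (ZMod p) V ^ 2 := fun u hu => by
    have := index_mul_relIndex_le (A := ⊥) u fun g => hz.conj_mem_SS g hu
    rw [sup_bot_eq, relIndex_bot_right, mul_one] at this
    exact this.trans hS
  have h1 := index_le_mul (centralizer {x} ⊓ centralizer {y}) (bot_le : ⊥ ≤ R)
  rw [sup_bot_eq] at h1
  have h2 := (index_inf_le (H := centralizer {x}) (K := centralizer {y})).trans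
    (Nat.mul_le_mul (hi x hx) (hi y hy))
  have h3 := h.orb_le (K := centralizer {x} ⊓ centralizer {y}) (W := fx ρ {x, y})
    (fun k hk w hw => fx_inv (by
      rintro g (rfl | rfl)
      · exact (mem_centralizer_singleton_iff.1 hk.1).symm
      · exact (mem_centralizer_singleton_iff.1 hk.2).symm) hw) (v := v) (by
      rintro g (rfl | rfl)
      exacts [vx, vy]) h0
  have h4 : 0 < {w | ∃ k ∈ (centralizer {x} ⊓ centralizer {y}) ⊓ R, ρ k v = w}.ncard :=
    (Set.ncard_pos (Set.toFinite _)).2 ⟨v, 1, one_mem _, by rw [map_one, Module.End.one_apply]⟩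
  have h5 : 0 < Module.finrank (ZMod p) V := Module.finrank_pos
  generalize Module.finrank (ZMod p) V = d, Nat.card (fx ρ {x, y}) = w, R.index = m,
    R.relIndex (centralizer {x} ⊓ centralizer {y}) = k,
    (centralizer {x} ⊓ centralizer {y} : Subgroup M).index = s,
    {w | ∃ k ∈ (centralizer {x} ⊓ centralizer {y}) ⊓ R, ρ k v = w}.ncard = o at h1 h2 h3 h4 h5 ⊢
  have h6 : k + 1 ≤ w := (Nat.add_le_add_right (Nat.le_mul_of_pos_right k h4) 1).trans h3
  have h7 : 1 ≤ 4 * d ^ 4 := Nat.mul_pos (by decide) (pow_pos h5 4)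
  calc m + 1 ≤ 2 * d ^ 2 * (2 * d ^ 2) * k + 4 * d ^ 4 :=
        Nat.add_le_add (h1.trans (Nat.mul_le_mul_right k h2)) h7
    _ = 4 * d ^ 4 * (k + 1) := by ring
    _ ≤ _ := Nat.mul_le_mul_left _ h6

theorem Lin.two_comm [Nontrivial V] (h : Lin 2 ρ A R) (hz : Cz 2 ρ A z) {x y : M}
    (hx : x ∈ SS 2 A z) (hy : y ∈ SS 2 A z) (hxy : x * y = y * x) (hx1 : x ∉ zpowers z)
    (hy1 : y ∉ zpowers z) (hxy1 : x * y ∉ zpowers z) :
    ∃ w, w ^ 3 ≤ Nat.card V ∧ R.index + 1 ≤ 4 * Module.finrank (ZMod p) V ^ 4 * w := by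
  obtain ⟨v, h0, vx⟩ := h.exists_fixed_two hz hx.2.1 (fun e => hx1 (e ▸ mem_zpowers x))
  by_cases h1 : v + ρ y v = 0
  · refine LinT.core h hz hx (hz.mul_mem_SS hy (mem_zpowers z)) ?_ hx1
      (fun e => hy1 ((mul_mem_cancel_right (mem_zpowers z)).1 e))
      (fun e => hxy1 ((mul_mem_cancel_right (mem_zpowers z)).1 (by rwa [mul_assoc]))) h0 vx ?_
    · rw [← mul_assoc, hxy, mul_assoc, mul_assoc, hz.cen x hx.1]
    · rw [rep_mul, hz.neg, map_neg]
      exact (eq_neg_of_add_eq_zero_left h1).symm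
  · refine LinT.core h hz hx hy hxy hx1 hy1 hxy1 h1 ?_ ?_
    · rw [map_add, plus hxy vx, vx]
    · rw [map_add, ← rep_mul, ← sq, hy.2.1, map_one, Module.End.one_apply, add_comm]

end Cfsg.Agent.DerG
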