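import Cfsg.Agent.DerG.SSb
import Cfsg.Agent.GT.PGroupCyclicNormal

/-! The linear bound for `r = 2` when `A` has small rank. -/

set_option autoImplicit false
set_option linter.unusedSectionVars false

namespace Cfsg.Agent.DerG

open MulAction Subgroup

variable {p : ℕ} [Fact p.Prime] {M V : Type*} [Group M] [Finite M]
  [AddCommGroup V] [Module (ZMod p) V] [Finite V] {ρ : Representation (ZMod p) M V}
  {A R : Subgroup M} {z : M}

namespace LinU

theorem pair (hz : Cz 2 ρ A z) {x y : M} (hx : x ∈ A) (h2 : x ^ 2 = 1) (hx1 : x ∉ zpowers z)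
    (hy : y = x ∨ y = x * z) : y ∈ A ∧ y ^ 2 = 1 ∧ y ∉ zpowers z := by
  rcases hy with rfl | rfl
  · exact ⟨hx, h2, hx1⟩
  · refine ⟨mul_mem hx hz.mem, ?_, fun h => hx1 ((mul_mem_cancel_right (mem_zpowers z)).1 h)⟩
    rw [Commute.mul_pow (hz.cen x hx), h2, hz.pow_eq, one_mul]

theorem one_le {K : Subgroup M} (v : V) : 1 ≤ {w | ∃ k ∈ K, ρ k v = w}.ncard :=
  (Set.ncard_pos (Set.toFinite _)).2 ⟨v, 1, one_mem _, by rw [map_one, Module.End.one_apply]⟩

theorem inv_eq {x : M} (h2 : x ^ 2 = 1) : x⁻¹ = x := inv_eq_of_mul_eq_one_left (pow_two x ▸ h2)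

end LinU

open LinU

theorem Lin.two_core [Nontrivial V] (h : Lin 2 ρ A R) (hz : Cz 2 ρ A z) {x : M} (hx : x ∈ A)
    (h2 : x ^ 2 = 1) (hx1 : x ∉ zpowers z)
    (hb : ∀ y, y = x ∨ y = x * z → ∀ v, v ≠ 0 → ρ y v = v →
      (centralizer {y} ⊔ A).index ≤ {w | ∃ k ∈ centralizer {y} ⊓ R, ρ k v = w}.ncard) :
    (R.index + 1) ^ 2 ≤ Nat.card V := by
  have := h.nR
  have key : ∀ y, y = x ∨ y = x * z → R.index + 1 ≤ Nat.card (fx ρ {y}) := fun y hy => by
    obtain ⟨-, y2, y1⟩ := pair hz hx h2 hx1 hy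
    obtain ⟨v, v0, hv⟩ := h.exists_fixed_two hz y2 fun e => y1 (e ▸ mem_zpowers z)
    have h1 := h.orb_le (K := centralizer {y}) (W := fx ρ {y})
      (fun k hk w hw => fx_inv (mem_centralizer_iff.1 hk) hw) (mem_fx_one.2 hv) v0
    have h3 := index_le_mul (centralizer {y}) h.le
    have h4 := Nat.mul_le_mul_right (R.relIndex (centralizer {y})) (hb y hy v v0 hv)
    rw [mul_comm] at h1
    omega
  have h1 : Nat.card (fx ρ {x} × fx ρ {x * z}) ≤ Nat.card V := by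
    refine Nat.card_le_card_of_injective (fun t => t.1.1 + t.2.1) ?_
    rintro ⟨u, w⟩ ⟨u', w'⟩ e
    have e1 : u.1 - u'.1 = w'.1 - w.1 := by
      have e' : u.1 + w.1 = u'.1 + w'.1 := e
      rw [sub_eq_sub_iff_add_eq_add, e', add_comm]
    have a1 := mem_fx_one.1 (sub_mem u.2 u'.2)
    have a2 := mem_fx_one.1 (sub_mem w'.2 w.2)
    rw [← e1, rep_mul, hz.neg, map_neg, a1] at a2
    have a3 := h.eq_zero_of_neg a2
    exact Prod.ext (Subtype.ext (sub_eq_zero.1 a3)) (Subtype.ext (sub_eq_zero.1 (e1 ▸ a3)).symm)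
  rw [Nat.card_prod] at h1
  rw [pow_two]
  exact (Nat.mul_le_mul (key x (Or.inl rfl)) (key _ (Or.inr rfl))).trans h1

theorem Lin.two_anti [Nontrivial V] (h : Lin 2 ρ A R) (hz : Cz 2 ρ A z) {x : M}
    (hx : x ∈ SS 2 A z) (hx1 : x ∉ zpowers z)
    (hno : ∀ x ∈ SS 2 A z, ∀ y ∈ SS 2 A z, x * y = y * x →
      x ∈ zpowers z ∨ y ∈ zpowers z ∨ x * y ∈ zpowers z) :
    (R.index + 1) ^ 2 ≤ Nat.card V := by
  have := h.nA
  refine h.two_core hz hx.1 hx.2.1 hx1 fun y hy v v0 hv => ?_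
  obtain ⟨yA, y2, y1⟩ := pair hz hx.1 hx.2.1 hx1 hy
  have yS : y ∈ SS 2 A z := hy.elim (fun e => e ▸ hx) fun e => e ▸ hz.mul_mem_SS hx (mem_zpowers z)
  have h1 := index_mul_relIndex_le (A := A) y (T := SS 2 A z \ zpowers z)
    fun g => ⟨hz.conj_mem_SS g yS, hz.conj_notMem g y1⟩
  have h3 : 2 ≤ (centralizer {y}).relIndex A := by
    obtain ⟨a, ha, hne⟩ := hz.exists_not_comm yA y2 y1
    have a0 : (centralizer {y}).relIndex A ≠ 0 := index_ne_zero_of_finite
    have a1 : (centralizer {y}).relIndex A ≠ 1 := fun e =>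
      hne (mem_centralizer_singleton_iff.1 (relIndex_eq_one.1 e ha))
    omega
  have h4 := Set.ncard_le_ncard_sdiff_add_ncard (SS 2 A z \ zpowers z) {y, y * z} (Set.toFinite _)
  have h5 : ({y, y * z} : Set M).ncard ≤ 2 := (Set.ncard_insert_le _ _).trans (by simp)
  have h6 := one_le (ρ := ρ) (K := centralizer {y} ⊓ R) v
  have h7 := Nat.mul_le_mul_left (centralizer {y} ⊔ A).index h3
  suffices h8 : ((SS 2 A z \ zpowers z) \ {y, y * z}).ncard ≤
      {w | ∃ k ∈ centralizer {y} ⊓ R, ρ k v = w}.ncard by omega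
  rcases Set.eq_empty_or_nonempty ((SS 2 A z \ zpowers z) \ {y, y * z}) with e | ⟨x0, h0⟩
  · rw [e, Set.ncard_empty]
    exact Nat.zero_le _
  have cj : ∀ a ∈ (SS 2 A z \ zpowers z) \ {y, y * z}, a * y = z * y * a := fun a ha => by
    rcases hz.mem_two.1 (yS.2.2 a ha.1.1.1) with e | e
    · have c : a * y = y * a := by rw [← mul_inv_eq_iff_eq_mul, ← mul_inv_eq_one, e]
      rcases hno a ha.1.1 y yS c with e | e | e
      · exact (ha.1.2 e).elim
      · exact (y1 e).elim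
      · refine (ha.2 ?_).elim
        rcases hz.mem_two.1 e with e | e
        · exact Or.inl ((eq_inv_of_mul_eq_one_left e).trans (inv_eq y2))
        · exact Or.inr (by rw [hz.cen y yA, ← e, mul_assoc, ← pow_two, y2, mul_one]; rfl)
    · rw [← e]; group
  refine Set.ncard_le_ncard_of_injOn (fun a => ρ (x0 * a) v) (fun a ha => ⟨x0 * a, mem_inf.2
    ⟨mem_centralizer_singleton_iff.2 ?_, h.le (mul_mem h0.1.1.1 ha.1.1.1)⟩, rfl⟩)
    (fun a ha b hb e => ?_) (Set.toFinite _)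
  · calc x0 * a * y = x0 * z * y * a := by rw [mul_assoc, cj a ha]; group
      _ = z * (x0 * y) * a := by rw [hz.cen x0 h0.1.1.1]; group
      _ = z ^ 2 * y * (x0 * a) := by rw [cj x0 h0, pow_two]; group
      _ = y * (x0 * a) := by rw [hz.pow_eq, one_mul]
  · have e1 : ρ a v = ρ b v := rep_injective ρ x0 (by rw [← rep_mul, ← rep_mul]; exact e)
    have e2 : ρ (a * b) v = v := by
      rw [rep_mul, ← e1, ← rep_mul, ← pow_two, ha.1.1.2.1, map_one, Module.End.one_apply]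
    have k : ∀ c ∈ zpowers z, ρ c v = v → c = 1 := fun c hc e => by
      by_contra c1
      exact v0 (hz.fpf' hc c1 e)
    have e3 := k _ (hb.1.1.2.2 a ha.1.1.1) (by
      rw [inv_eq ha.1.1.2.1, inv_eq hb.1.1.2.1, mul_assoc, rep_mul, e2, e2])
    have c : a * b = b * a := by rw [← mul_inv_eq_iff_eq_mul, ← mul_inv_eq_one, e3]
    have e4 := k _ (((hno a ha.1.1 b hb.1.1 c).resolve_left ha.1.2).resolve_left hb.1.2) e2
    exact (eq_inv_of_mul_eq_one_left e4).trans (inv_eq hb.1.1.2.1)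

theorem Lin.two_max [Nontrivial V] (h : Lin 2 ρ A R) (hz : Cz 2 ρ A z) {x : M} (hx : x ∈ A)
    (h2 : x ^ 2 = 1) (hx1 : x ∉ zpowers z) (hno : ∀ y ∈ SS 2 A z, y ∈ zpowers z) :
    (R.index + 1) ^ 2 ≤ Nat.card V := by
  have := h.nA
  have cz : ∀ c : A, c ∈ center A → c ^ 2 = 1 → (c : M) ∈ zpowers z := fun c hc c2 =>
    hz.om c c.2 (fun a ha => congrArg Subtype.val (mem_center_iff.1 hc ⟨a, ha⟩)) (congrArg Subtype.val c2)
  have mz : ∀ c : A, c ∈ zpowers (⟨z, hz.mem⟩ : A) ↔ (c : M) ∈ zpowers z := fun c =>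
    exists_congr fun i => Subtype.ext_iff
  rcases GT.PG.isCyclic_or_maxTwo_of_no_normal_elementary_sq h.pg (fun B hB hE h4 => by
    have := h.pg.isNilpotent
    have b0 : B ≠ ⊥ := fun e => by rw [e, card_bot] at h4; exact absurd h4 (by decide)
    obtain ⟨c, hc, c1⟩ := (bot_or_exists_ne_one _).resolve_left (GT.PG.inf_center_ne_bot B b0)
    have e : c = ⟨z, hz.mem⟩ := Subtype.ext ((hz.mem_two.1 (cz c (mem_inf.1 hc).2
      (hE.2 c (mem_inf.1 hc).1))).resolve_left fun e => c1 (Subtype.ext e))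
    have le : zpowers (⟨z, hz.mem⟩ : A) ≤ B := zpowers_le.2 (e ▸ (mem_inf.1 hc).1)
    have i2 : ((zpowers (⟨z, hz.mem⟩ : A)).subgroupOf B).index = 2 := by
      have := card_mul_index ((zpowers (⟨z, hz.mem⟩ : A)).subgroupOf B)
      rw [Nat.card_congr (subgroupOfEquivOfLe le).toEquiv, Nat.card_zpowers, ← orderOf_coe, hz.ord,
        h4] at this
      omega
    obtain ⟨y, hy⟩ : ∃ y : B, y ∉ (zpowers (⟨z, hz.mem⟩ : A)).subgroupOf B := by
      by_contra hn
      push Not at hn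
      rw [(eq_top_iff' _).2 hn, index_top] at i2
      omega
    have y1 : ((y : A) : M) ∉ zpowers z := fun e => hy ((mz y).2 e)
    refine y1 (hno _ ⟨(y : A).2, congrArg Subtype.val (hE.2 y y.2), fun a ha => ?_⟩)
    exact (mz _).1 ((mul_mem_iff_of_index_two i2 (a := ⟨_, hB.conj_mem y y.2 ⟨a, ha⟩⟩) (b := y⁻¹)).2
      (iff_of_false (fun e => hz.conj_notMem a y1 ((mz _).1 e)) fun e => hy (inv_mem_iff.1 e))))
    with hc | ⟨-, m, u, b, hm⟩
  · obtain ⟨a, ha, hne⟩ := hz.exists_not_comm hx h2 hx1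
    exact (hne (congrArg Subtype.val (hc.isMulCommutative.is_comm.comm ⟨a, ha⟩ ⟨x, hx⟩))).elim
  have out : ∀ y : A, (y : M) ^ 2 = 1 → (y : M) ∉ zpowers z → y ∉ zpowers u := by
    rintro _ y2 y1 ⟨i, rfl⟩
    have y3 : (u ^ i) ^ 2 = 1 := Subtype.ext y2
    refine y1 (cz _ ?_ y3)
    beta_reduce
    rw [hm.center_eq, hm.zpow_mem_zpowers_z_iff]
    rw [← zpow_natCast, ← zpow_mul, ← orderOf_dvd_iff_zpow_eq_one, hm.orderOf_eq] at y3
    push_cast at y3
    rw [pow_succ] at y3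
    exact Int.dvd_of_mul_dvd_mul_right two_ne_zero y3
  refine h.two_core hz hx h2 hx1 fun y hy v v0 hv => ?_
  obtain ⟨yA, y2, y1⟩ := pair hz hx h2 hx1 hy
  have h1 := index_mul_relIndex_le (A := A) y (T := Subtype.val '' ((zpowers u : Set A)ᶜ))
    fun g => ⟨⟨_, h.nA.conj_mem y yA g⟩, out _ (by
      change (g * y * g⁻¹) ^ 2 = 1
      rw [conj_pow, y2, mul_one, mul_inv_cancel]) (hz.conj_notMem g y1), rfl⟩
  have h3 : ((zpowers u : Set A)ᶜ).ncard = 2 ^ m * 2 := by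
    have := Set.ncard_add_ncard_compl (zpowers u : Set A)
    rw [← Nat.card_coe_set_eq, SetLike.coe_sort_coe, Nat.card_zpowers, hm.orderOf_eq, hm.card_eq,
      pow_add 2 m 2] at this
    omega
  have h4 : (centralizer {y}).relIndex A = 2 ^ m := by
    have := card_mul_index (centralizer {(⟨y, yA⟩ : A)})
    rw [hm.card_centralizer_of_notMem (out ⟨y, yA⟩ y2 y1), hm.card_eq, pow_add 2 m 2] at this
    rw [relIndex, show (centralizer {y}).subgroupOf A = centralizer {(⟨y, yA⟩ : A)} from ext fun a => by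
      rw [mem_subgroupOf, mem_centralizer_singleton_iff, mem_centralizer_singleton_iff, Subtype.ext_iff]
      rfl]
    omega
  rw [Set.ncard_image_of_injective _ Subtype.val_injective, h3, h4, mul_comm] at h1
  refine (Nat.le_of_mul_le_mul_left h1 (by positivity)).trans
    ((Set.one_lt_ncard (Set.toFinite _)).2 ⟨v, ⟨1, one_mem _, by rw [map_one, Module.End.one_apply]⟩,
      -v, ⟨z, mem_inf.2 ⟨mem_centralizer_singleton_iff.2 (hz.cen y yA).symm, h.le hz.mem⟩, hz.neg v⟩,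
      fun e => v0 (h.eq_zero_of_neg e.symm)⟩)

end Cfsg.Agent.DerG
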