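import Cfsg.Agent.DerG.LinC
import Cfsg.Agent.DerG.LinO
import Cfsg.Agent.DerG.LinT
import Cfsg.Agent.DerG.LinU

set_option autoImplicit false

namespace Cfsg.Agent.DerG

open MulAction Subgroup

theorem exists_num : ∃ N : ℕ, ∀ n d w m : ℕ, N ≤ n → 2 ^ d ≤ n → w ^ 3 ≤ n →
    m + 1 ≤ 4 * d ^ 4 * w → (m + 1) ^ 2 ≤ n := by
  have h := (tendsto_pow_const_div_const_pow_of_one_lt 24 (r := 2) one_lt_two).eventually
    (ge_mem_nhds (show (0 : ℝ) < 1 / 4 ^ 6 by positivity))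
  obtain ⟨d0, hd0⟩ := Filter.eventually_atTop.1 h
  refine ⟨4 ^ 6 * d0 ^ 24, fun n d w m h1 h2 h3 h4 => ?_⟩
  have h5 : 4 ^ 6 * d ^ 24 ≤ n := by
    rcases le_total d0 d with k | k
    · refine le_trans ?_ h2
      have := hd0 d k
      rw [div_le_div_iff₀ (by positivity) (by positivity), one_mul, mul_comm] at this
      exact_mod_cast this
    · exact le_trans (Nat.mul_le_mul_left _ (Nat.pow_le_pow_left k _)) h1
  refine (Nat.pow_le_pow_iff_left (n := 3) (by norm_num)).1 ?_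
  calc ((m + 1) ^ 2) ^ 3 = (m + 1) ^ 6 := by ring
    _ ≤ (4 * d ^ 4 * w) ^ 6 := Nat.pow_le_pow_left h4 _
    _ = 4 ^ 6 * d ^ 24 * (w ^ 3) ^ 2 := by ring
    _ ≤ n * n ^ 2 := Nat.mul_le_mul h5 (Nat.pow_le_pow_left h3 _)
    _ = n ^ 3 := by ring

theorem Lin.bound {N : ℕ} (hN : ∀ n d w m : ℕ, N ≤ n → 2 ^ d ≤ n → w ^ 3 ≤ n →
      m + 1 ≤ 4 * d ^ 4 * w → (m + 1) ^ 2 ≤ n)
    {p r : ℕ} [hp : Fact p.Prime] [Fact r.Prime] {M V : Type*} [Group M] [Finite M] [AddCommGroup V]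
    [Module (ZMod p) V] [Finite V] {ρ : Representation (ZMod p) M V} {A R : Subgroup M} (h : Lin r ρ A R)
    {x : M} (hx : x ∈ A) (h1 : x ≠ 1) (hr : x ^ r = 1) {v : V} (hv : v ≠ 0) (hxv : ρ x v = v)
    (hV : N ≤ Nat.card V) : (R.index + 1) ^ 2 ≤ Nat.card V := by
  have : Nontrivial V := nontrivial_of_ne v 0 hv
  have hd : 2 ^ Module.finrank (ZMod p) V ≤ Nat.card V := by
    rw [Module.natCard_eq_pow_finrank (K := ZMod p), Nat.card_zmod]
    exact Nat.pow_le_pow_left hp.out.two_le _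
  rcases h.exists_cz (fun e => h1 (mem_bot.1 (e ▸ hx))) with k | ⟨z, hz⟩
  · exact k
  have hxz : x ∉ zpowers z := fun k => hv (hz.fpf x hx (fun a ha => by
    obtain ⟨i, rfl⟩ := mem_zpowers_iff.1 k
    exact ((show Commute a z from hz.cen a ha).zpow_right i).eq) h1 v hxv)
  by_cases h2 : r = 2
  · subst h2
    by_cases h3 : ∀ y ∈ SS 2 A z, y ∈ zpowers z
    · exact h.two_max hz hx hr hxz h3
    push Not at h3
    obtain ⟨y, hy, hy1⟩ := h3
    by_cases h4 : ∀ x ∈ SS 2 A z, ∀ y ∈ SS 2 A z, x * y = y * x →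
      x ∈ zpowers z ∨ y ∈ zpowers z ∨ x * y ∈ zpowers z
    · exact h.two_anti hz hy hy1 h4
    push Not at h4
    obtain ⟨a, ha, b, hb, k1, k2, k3, k4⟩ := h4
    obtain ⟨w, w1, w2⟩ := h.two_comm hz ha hb k1 k2 k3 k4
    exact hN _ _ w _ hV hd w1 w2
  · obtain ⟨w, w1, w2⟩ := h.odd hz h2 hx h1 hv hxv
    refine hN _ _ w _ hV hd w1 (w2.trans (Nat.mul_le_mul_right _ ?_))
    generalize Module.finrank (ZMod p) V = d
    nlinarith [Nat.le_self_pow two_ne_zero (d ^ 2), show (d ^ 2) ^ 2 = d ^ 4 by ring]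

theorem lin_bound {N : ℕ} (hN : ∀ n d w m : ℕ, N ≤ n → 2 ^ d ≤ n → w ^ 3 ≤ n →
      m + 1 ≤ 4 * d ^ 4 * w → (m + 1) ^ 2 ≤ n)
    {p : ℕ} [Fact p.Prime] {H V : Type*} [Group H] [Finite H] [AddCommGroup V]
    [Module (ZMod p) V] [Finite V] (ρ : Representation (ZMod p) H V) (hi : Function.Injective ρ)
    (hp : ¬ p ∣ Nat.card H) {R : Subgroup H} [R.Normal] (hR : ∀ g ∉ R, ∀ v, ρ g v = v → v = 0)
    {x : H} (h1 : x ≠ 1) {v : V} (hv : v ≠ 0) (hxv : ρ x v = v) (hV : N ≤ Nat.card V) :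
    (R.index + 1) ^ 2 ≤ Nat.card V := by
  have hxR : x ∈ R := by_contra fun k => hv (hR x k v hxv)
  obtain ⟨r, hr, hrd⟩ := Nat.exists_prime_and_dvd (n := orderOf x) (fun e => h1 (orderOf_eq_one_iff.1 e))
  have : Fact r.Prime := ⟨hr⟩
  have ho : orderOf (x ^ (orderOf x / r)) = r := orderOf_pow_orderOf_div (orderOf_pos x).ne' hrd
  have hfix : ∀ k : ℕ, ρ (x ^ k) v = v := fun k => by
    induction k with
    | zero => rw [pow_zero, map_one, Module.End.one_apply]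
    | succ k ih => rw [pow_succ, rep_mul, hxv, ih]
  set y := x ^ (orderOf x / r) with hy
  have hyR : y ∈ R := pow_mem hxR _
  have hpg : IsPGroup r (zpowers (⟨y, hyR⟩ : R)) := IsPGroup.of_card (n := 1) (by
    rw [Nat.card_zpowers, pow_one, ← orderOf_coe, ho])
  obtain ⟨P, hP⟩ := hpg.exists_le_sylow
  set A := (P : Subgroup R).map R.subtype with hA
  have hyA : y ∈ A := ⟨_, hP (mem_zpowers _), rfl⟩
  have hM : normalizer (A : Set H) ⊔ R = ⊤ := Sylow.normalizer_sup_eq_top P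
  have hL : Lin r (ρ.comp (normalizer (A : Set H)).subtype) (A.subgroupOf (normalizer (A : Set H)))
      (R.subgroupOf (normalizer (A : Set H))) :=
    { inj := hi.comp Subtype.val_injective
      ne := fun e => hp (e ▸ hrd.trans (orderOf_dvd_natCard x))
      pg := (P.isPGroup'.map _).comap_subtype
      nA := normal_in_normalizer
      nR := inferInstance
      le := comap_mono (map_subtype_le _)
      fpf := fun g hg => hR g hg }
  rw [← relIndex_eq_index hM]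
  exact hL.bound hN (x := ⟨y, le_normalizer hyA⟩) hyA
    (fun e => hr.ne_one (ho.symm.trans (orderOf_eq_one_iff.2 (congrArg Subtype.val e))))
    (Subtype.ext (by rw [← ho]; exact pow_orderOf_eq_one y)) hv (hfix _) hV

end Cfsg.Agent.DerG
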