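import Cfsg.Agent.DerG.LinF

/-! An abelian normal subgroup with a nonzero fixed vector of a nontrivial element. -/

set_option autoImplicit false

namespace Cfsg.Agent.DerG

open MulAction Subgroup

variable {p r : ℕ} [Fact p.Prime] [Fact r.Prime] {M V : Type*} [Group M] [Finite M]
  [AddCommGroup V] [Module (ZMod p) V] [Finite V] {ρ : Representation (ZMod p) M V}
  {A R : Subgroup M} {z : M}

theorem linC_bernoulli (y s : ℕ) (hs : 2 ≤ s) : (s * y + 1) ^ 2 ≤ (y * 2 + 1) ^ s := by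
  induction s, hs using Nat.le_induction with
  | base => rw [mul_comm]
  | succ s hs ih =>
    rw [pow_succ (y * 2 + 1)]
    refine le_trans ?_ (Nat.mul_le_mul_right _ ih)
    have h1 : y * y ≤ 2 * y * (s * y + 1) * (s * y) := by
      calc y * y ≤ (2 * y * 1) * (1 * y) := by nlinarith
        _ ≤ _ := Nat.mul_le_mul (Nat.mul_le_mul_left _ (by omega))
          (Nat.mul_le_mul_right _ (by omega))
    nlinarith

/-- The conjugates of the fixed space of a maximal `F` are independent. -/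
theorem linC_pow_le (h : Lin r ρ A R) {E F : Subgroup M} [hN : E.Normal] (hE : E ≤ A)
    (hc : ∀ x ∈ E, ∀ y ∈ E, x * y = y * x) (hF : F ≤ E)
    (hmax : ∀ u : V, u ≠ 0 → u ∈ fx ρ F → ∀ g ∈ E, ρ g u = u → g ∈ F) :
    Nat.card (fx ρ (F : Set M)) ^ (normalizer (F : Set M)).index ≤ Nat.card V := by
  classical
  set K := normalizer (F : Set M) with hK
  let _ : Fintype (M ⧸ K) := Fintype.ofFinite _
  let _ : Fintype F := Fintype.ofFinite _
  have key : ∀ t ∉ K, ∀ w ∈ fx ρ (F : Set M), ∑ y : F, ρ y (ρ t w) = 0 := by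
    intro t ht w hw
    by_contra h0
    refine ht (mem_normalizer_fintype fun n hn => hmax _ h0 (fun g hg => ?_) _
      (hN.conj_mem n (hF hn) t) ?_)
    · rw [map_sum]
      refine Fintype.sum_equiv (Equiv.mulLeft (⟨g, hg⟩ : F)) _ _ fun y => ?_
      rw [← rep_mul]
      rfl
    · rw [map_sum]
      refine Finset.sum_congr rfl fun y _ => ?_
      rw [← rep_mul, hc _ (hN.conj_mem n (hF hn) t) y (hF y.2), rep_mul, ← rep_mul _ _ t,
        inv_mul_cancel_right, rep_mul, hw n hn]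
  obtain ⟨k, hk⟩ := (h.pg.to_le (hF.trans hE)).exists_card_eq
  rw [index, ← Nat.card_fun]
  refine Nat.card_le_card_of_injective (fun f => ∑ q : M ⧸ K, ρ q.out (f q : V)) fun f f' e => ?_
  funext q
  have e1 : ∑ q' : M ⧸ K, ρ q'.out ((f q' : V) - f' q') = 0 := by
    simp only [map_sub, Finset.sum_sub_distrib]
    exact sub_eq_zero.2 e
  have e2 : ∑ y : F, ∑ q' : M ⧸ K, ρ y (ρ (q.out⁻¹ * q'.out) ((f q' : V) - f' q')) = 0 := by
    refine Finset.sum_eq_zero fun y _ => ?_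
    simp only [rep_mul]
    rw [← map_sum, ← map_sum, e1, map_zero, map_zero]
  have hm : ∀ q', (f q' : V) - f' q' ∈ fx ρ (F : Set M) := fun q' => sub_mem (f q').2 (f' q').2
  rw [Finset.sum_comm, Finset.sum_eq_single q] at e2
  · rw [inv_mul_cancel, map_one, Module.End.one_apply,
      Finset.sum_congr rfl fun (y : F) _ => hm q y y.2, Finset.sum_const, Finset.card_univ,
      ← Nat.card_eq_fintype_card, hk] at e2
    exact Subtype.ext (sub_eq_zero.1 (h.nsmul_eq_zero k e2))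
  · intro q' _ hq
    refine key _ (fun hk => hq ?_) _ (hm q')
    rw [← QuotientGroup.eq, QuotientGroup.out_eq', QuotientGroup.out_eq'] at hk
    exact hk.symm
  · intro hq
    exact (hq (Finset.mem_univ q)).elim

theorem Lin.sq_le_of_abelian (h : Lin r ρ A R) {E : Subgroup M} [E.Normal] (hE : E ≤ A)
    (hc : ∀ x ∈ E, ∀ y ∈ E, x * y = y * x) {x : M} (hx : x ∈ E) (h1 : x ≠ 1) {v : V} (hv : v ≠ 0)
    (hxv : ρ x v = v) : (R.index + 1) ^ 2 ≤ Nat.card V := by
  let _ := ract ρ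
  have := h.nR
  have hP : ∀ u : V, u ≠ 0 → fx ρ ((E ⊓ stabilizer M u : Subgroup M) : Set M) ≠ ⊥ := fun u hu e =>
    hu ((Submodule.eq_bot_iff _).1 e u fun g hg => hg.2)
  obtain ⟨F, hxF, hF⟩ := Finite.exists_le_maximal
    (p := fun F : Subgroup M => F ≤ E ∧ fx ρ (F : Set M) ≠ ⊥) (a := E ⊓ stabilizer M v)
    ⟨inf_le_left, hP v hv⟩
  have hmax : ∀ u : V, u ≠ 0 → u ∈ fx ρ F → ∀ g ∈ E, ρ g u = u → g ∈ F := fun u hu huF g hg e =>
    hF.2 (y := E ⊓ stabilizer M u) ⟨inf_le_left, hP u hu⟩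
      (fun a ha => ⟨hF.1.1 ha, huF a ha⟩) ⟨hg, e⟩
  set K := normalizer (F : Set M) with hK
  have hW : ∀ k ∈ K, ∀ w ∈ fx ρ (F : Set M), ρ k w ∈ fx ρ (F : Set M) := fun k hk w hw g hg => by
    have := hw _ ((mem_normalizer_iff''.1 hk g).1 hg)
    rw [← rep_mul, show g * k = k * (k⁻¹ * g * k) by group, rep_mul, this]
  by_cases hT : K = ⊤
  · refine h.sq_le_of_inv (W := fx ρ (F : Set M)) (fun g => hW g (hT ▸ mem_top g)) hF.1.2
      fun e => h1 (h.inj (LinearMap.ext fun w => ?_))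
    rw [map_one, Module.End.one_apply]
    exact (e ▸ Submodule.mem_top : w ∈ fx ρ (F : Set M)) x (hxF ⟨hx, hxv⟩)
  have hs : 2 ≤ K.index := by
    have h2 : K.index ≠ 0 := index_ne_zero_of_finite
    have h3 : K.index ≠ 1 := fun e => hT (index_eq_one.1 e)
    omega
  obtain ⟨u, huF, hu⟩ := (Submodule.ne_bot_iff _).1 hF.1.2
  have he : ∃ e ∈ E, ρ e u ≠ u := by
    by_contra hn
    push Not at hn
    have e : F = E := le_antisymm hF.1.1 fun g hg => hmax u hu huF g hg (hn g hg)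
    refine hT ?_
    rw [hK, e]
    exact normalizer_eq_top E
  obtain ⟨e, heE, heu⟩ := he
  have heK : e ∈ K := mem_normalizer_fintype fun n hn => by
    rw [hc e heE n (hF.1.1 hn), mul_inv_cancel_right]
    exact hn
  have h2 := h.orb_le hW huF hu
  have h3 : 1 < {w | ∃ k ∈ K ⊓ R, ρ k u = w}.ncard :=
    (Set.one_lt_ncard (Set.toFinite _)).2 ⟨_, ⟨e, ⟨heK, h.le (hE heE)⟩, rfl⟩, u,
      ⟨1, one_mem _, by rw [map_one, Module.End.one_apply]⟩, heu⟩
  have h4 : R.relIndex K * 2 + 1 ≤ Nat.card (fx ρ (F : Set M)) :=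
    le_trans (Nat.add_le_add_right (Nat.mul_le_mul_left _ h3) 1) h2
  have h5 : R.index ≤ K.index * R.relIndex K :=
    (index_le_mul K h.le).trans (Nat.mul_le_mul_right _ (Nat.le_of_dvd (by omega)
      (index_dvd_of_le le_sup_left)))
  calc (R.index + 1) ^ 2 ≤ (K.index * R.relIndex K + 1) ^ 2 :=
        Nat.pow_le_pow_left (Nat.add_le_add_right h5 1) 2
    _ ≤ (R.relIndex K * 2 + 1) ^ K.index := linC_bernoulli _ _ hs
    _ ≤ Nat.card (fx ρ (F : Set M)) ^ K.index := Nat.pow_le_pow_left h4 _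
    _ ≤ _ := linC_pow_le h hE hc hF.1.1 hmax

theorem Lin.exists_cz [Nontrivial V] (h : Lin r ρ A R) (hA : A ≠ ⊥) :
    (R.index + 1) ^ 2 ≤ Nat.card V ∨ ∃ z, Cz r ρ A z := by
  have hN := h.nA
  by_cases hf : ∃ c ∈ A, (∀ a ∈ A, a * c = c * a) ∧ c ≠ 1 ∧ ∃ v, v ≠ 0 ∧ ρ c v = v
  · obtain ⟨c, hc, hca, h1, v, hv, e⟩ := hf
    exact Or.inl (h.sq_le_of_abelian (E := A ⊓ centralizer A) inf_le_left
      (fun x hx y hy => hy.2 x hx.1) ⟨hc, hca⟩ h1 hv e)
  have hf' : ∀ c ∈ A, (∀ a ∈ A, a * c = c * a) → c ≠ 1 → ∀ v, ρ c v = v → v = 0 :=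
    fun c hc hca h1 v e => by
      by_contra hv
      exact hf ⟨c, hc, hca, h1, v, hv, e⟩
  have : Nontrivial A := (nontrivial_iff_ne_bot A).2 hA
  have hZ := h.pg.center_nontrivial
  obtain ⟨k, hk0, hk⟩ := (h.pg.to_subgroup (center A)).nontrivial_iff_card.1 hZ
  obtain ⟨c, hc⟩ := exists_prime_orderOf_dvd_card' (G := center A) r
    (hk ▸ dvd_pow_self r hk0.ne')
  have ho : orderOf ((c : A) : M) = r := by
    rw [orderOf_coe, orderOf_coe, hc]
  have hcen : ∀ a ∈ A, a * ((c : A) : M) = ((c : A) : M) * a := fun a ha =>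
    congrArg Subtype.val (mem_center_iff.1 c.2 ⟨a, ha⟩)
  refine Or.inr ⟨((c : A) : M), (c : A).2, ho, hcen, fun b hb hba hbr => ?_, hf'⟩
  rcases exists_fixed ρ h.ne ho hbr (hba _ (c : A).2) with ⟨v, hv, e⟩ | ⟨i, v, hv, e⟩
  · refine (hv (hf' _ (c : A).2 hcen (fun e1 => ?_) v e)).elim
    exact (Fact.out : r.Prime).one_lt.ne' (by rw [← ho, e1, orderOf_one])
  · have e1 : b * ((c : A) : M) ^ i = 1 := by
      by_contra h1
      refine hv (hf' _ (A.mul_mem hb (A.pow_mem (c : A).2 i)) (fun a ha => ?_) h1 v e)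
      exact (Commute.mul_right (hba a ha) (Commute.pow_right (hcen a ha) i)).eq
    rw [eq_inv_of_mul_eq_one_left e1]
    exact inv_mem (pow_mem (mem_zpowers _) i)

end Cfsg.Agent.DerG
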