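import Cfsg.Agent.DerG.SSb

/-! Fixed vectors of elementary abelian groups and a linear independence bound. -/

set_option autoImplicit false

namespace Cfsg.Agent.DerG

open MulAction Subgroup

variable {p r : ℕ} [Fact p.Prime] [Fact r.Prime] {M V : Type*} [Group M] [Finite M]
  [AddCommGroup V] [Module (ZMod p) V] [Finite V] {ρ : Representation (ZMod p) M V}
  {A R : Subgroup M} {z : M}

omit [Finite M] [Finite V] in
theorem linF_sum_pow {n : ℕ} {y : M} (hy : y ^ n = 1) (hf : ∀ v, ρ y v = v → v = 0) (v : V) :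
    ∑ j ∈ Finset.range n, ρ (y ^ j) v = 0 := by
  refine hf _ ?_
  rw [map_sum]
  have h1 := Finset.sum_range_succ (fun j => ρ (y ^ j) v) n
  rw [Finset.sum_range_succ'] at h1
  simp only [hy, pow_zero] at h1
  rw [← add_right_cancel h1]
  refine Finset.sum_congr rfl fun j _ => ?_
  rw [← rep_mul, pow_succ']

omit [Finite M] [Finite V] in
theorem linF_pow_fix {y : M} {v : V} (hv : ρ y v = v) (k : ℕ) : ρ (y ^ k) v = v := by
  induction k with
  | zero => rw [pow_zero, map_one, Module.End.one_apply]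
  | succ k ih => rw [pow_succ, rep_mul, hv, ih]

theorem exists_fixed [Nontrivial V] (ρ : Representation (ZMod p) M V) (hne : r ≠ p) {a b : M}
    (ha : orderOf a = r) (hb : b ^ r = 1) (hab : a * b = b * a) :
    (∃ v, v ≠ 0 ∧ ρ a v = v) ∨ ∃ (i : ℕ) (v : V), v ≠ 0 ∧ ρ (b * a ^ i) v = v := by
  by_contra hn
  rw [not_or] at hn
  obtain ⟨h1, h2⟩ := hn
  have hr : r.Prime := Fact.out
  have hc : Commute b a := hab.symm
  have har : a ^ r = 1 := ha ▸ pow_orderOf_eq_one a
  have f1 : ∀ v, ρ a v = v → v = 0 := fun v hv => by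
    by_contra h0
    exact h1 ⟨v, h0, hv⟩
  have f2 : ∀ (i : ℕ) (v : V), ρ (b * a ^ i) v = v → v = 0 := fun i v hv => by
    by_contra h0
    exact h2 ⟨i, v, h0, hv⟩
  obtain ⟨v, hv⟩ := exists_ne (0 : V)
  have e1 : ∑ i ∈ Finset.range r, ∑ j ∈ Finset.range r, ρ ((b * a ^ i) ^ j) v = 0 :=
    Finset.sum_eq_zero fun i _ => linF_sum_pow (by
      rw [(hc.pow_right i).mul_pow, hb, one_mul, ← pow_mul, mul_comm, pow_mul, har, one_pow])
      (f2 i) v
  rw [Finset.sum_comm, Finset.sum_eq_single 0] at e1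
  · simp only [pow_zero, map_one, Module.End.one_apply, Finset.sum_const, Finset.card_range] at e1
    have h0 : ((r : ℕ) : ZMod p) ≠ 0 := by
      rw [Ne, ZMod.natCast_eq_zero_iff]
      intro hd
      exact hne ((Nat.prime_dvd_prime_iff_eq Fact.out hr).1 hd).symm
    rw [← Nat.cast_smul_eq_nsmul (ZMod p)] at e1
    exact hv ((smul_eq_zero.1 e1).resolve_left h0)
  · intro j hj hj0
    have hcop : j.Coprime (orderOf a) := by
      rw [ha]
      exact (Nat.coprime_of_lt_prime hj0 (Finset.mem_range.1 hj) hr).symm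
    obtain ⟨k, hk⟩ := exists_pow_eq_self_of_coprime hcop
    have f3 : ∀ w, ρ (a ^ j) w = w → w = 0 := fun w hw => f1 w (by
      have := linF_pow_fix hw k
      rwa [hk] at this)
    have e2 := linF_sum_pow (n := r) (by rw [← pow_mul, mul_comm, pow_mul, har, one_pow]) f3 v
    rw [← map_zero (ρ (b ^ j)), ← e2, map_sum]
    refine Finset.sum_congr rfl fun i _ => ?_
    rw [← rep_mul, (hc.pow_right i).mul_pow, ← pow_mul, ← pow_mul, mul_comm i j]
  · intro h
    exact (h (Finset.mem_range.2 hr.pos)).elim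

omit [Fact r.Prime] [Finite M] [Finite V] in
theorem linF_avg [Fintype A] (hz : Cz r ρ A z) {u : M}
    (hu : ∀ a ∈ A, a * u * a⁻¹ * u⁻¹ ∈ zpowers z) {b : M} (hb : b ∈ A) (hbu : b * u ≠ u * b)
    (w : V) : ∑ a : A, ρ (a * u * (a : M)⁻¹) w = 0 := by
  refine hz.fpf' (hu b hb) (fun e => hbu ?_) ?_
  · rw [mul_inv_eq_one, mul_inv_eq_iff_eq_mul] at e
    exact e
  · rw [map_sum]
    refine Fintype.sum_equiv (Equiv.mulRight (⟨b, hb⟩ : A)) _ _ fun a => ?_
    rw [← rep_mul]
    have := hz.cen' (hu b hb) a a.2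
    congr 2
    change _ = (a : M) * b * u * ((a : M) * b)⁻¹
    calc b * u * b⁻¹ * u⁻¹ * (a * u * (a : M)⁻¹) = (b * u * b⁻¹ * u⁻¹ * a) * u * (a : M)⁻¹ := by
          group
      _ = _ := by rw [← this]; group

omit [Fact r.Prime] [Finite M] [Finite V] in
theorem linF_avg_SS [Fintype A] (hz : Cz r ρ A z) {x y : M} (hx : x ∈ SS r A z)
    (hy : y ∈ SS r A z) (hxy : x⁻¹ * y ∉ zpowers z) (w : V) :
    ∑ a : A, ρ (a * (x⁻¹ * y) * (a : M)⁻¹) w = 0 := by
  have hA : x⁻¹ * y ∈ A := A.mul_mem (A.inv_mem hx.1) hy.1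
  have h1 : ∃ b ∈ A, b * (x⁻¹ * y) ≠ (x⁻¹ * y) * b := by
    by_contra hn
    push Not at hn
    refine hxy (hz.om _ hA hn ?_)
    have hc : Commute x (x⁻¹ * y) := hn x hx.1
    have := hc.mul_pow r
    rwa [mul_inv_cancel_left, hy.2.1, hx.2.1, one_mul, eq_comm] at this
  obtain ⟨b, hb, hbu⟩ := h1
  refine linF_avg hz (fun a ha => ?_) hb hbu w
  have hc := mul_mem (inv_mem (hx.2.2 a ha)) (hy.2.2 a ha)
  have e := hz.cen' hc _ (A.inv_mem hx.1)
  have e2 : a * (x⁻¹ * y) * a⁻¹ * (x⁻¹ * y)⁻¹ =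
      x⁻¹ * ((a * x * a⁻¹ * x⁻¹)⁻¹ * (a * y * a⁻¹ * y⁻¹)) * x := by group
  rw [e2, e, inv_mul_cancel_right]
  exact hc

theorem Lin.ncard_SS_le (h : Lin r ρ A R) (hz : Cz r ρ A z) :
    (SS r A z).ncard ≤ r * Module.finrank (ZMod p) V ^ 2 := by
  classical
  have hV : Nontrivial V := by
    by_contra hn
    rw [not_nontrivial_iff_subsingleton] at hn
    exact hz.ne_one (h.inj (LinearMap.ext fun v => Subsingleton.elim _ _))
  let _ : Fintype A := Fintype.ofFinite A
  set T : Set (M ⧸ zpowers z) := QuotientGroup.mk '' SS r A z with hT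
  let _ : Fintype T := Fintype.ofFinite T
  have hx : ∀ q : T, ∃ x ∈ SS r A z, (x : M ⧸ zpowers z) = q := fun q => q.2
  choose x hx1 hx2 using hx
  have hli : LinearIndependent (ZMod p) fun q : T => (ρ (x q) : Module.End (ZMod p) V) := by
    rw [Fintype.linearIndependent_iff]
    intro g hg i
    obtain ⟨w, hw⟩ := exists_ne (0 : V)
    have e1 : ∑ a : A, ∑ q : T, g q • ρ (a * ((x i)⁻¹ * x q) * (a : M)⁻¹) w = 0 := by
      refine Finset.sum_eq_zero fun a _ => ?_
      have e := congrArg (fun f : Module.End (ZMod p) V =>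
        ρ (a * (x i)⁻¹) (f (ρ (a : M)⁻¹ w))) hg
      simp only [LinearMap.sum_apply, LinearMap.smul_apply, map_sum, map_smul,
        LinearMap.zero_apply, map_zero] at e
      rw [← e]
      refine Finset.sum_congr rfl fun q _ => ?_
      simp only [← rep_mul, mul_assoc]
    rw [Finset.sum_comm, Finset.sum_eq_single i] at e1
    · simp only [inv_mul_cancel, mul_one, mul_inv_cancel, map_one, Module.End.one_apply,
        Finset.sum_const, Finset.card_univ] at e1
      obtain ⟨k, hk⟩ := h.pg.exists_card_eq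
      rw [← Nat.card_eq_fintype_card, hk] at e1
      exact (smul_eq_zero.1 (h.nsmul_eq_zero k e1)).resolve_right hw
    · intro q _ hq
      rw [← Finset.smul_sum, linF_avg_SS hz (hx1 i) (hx1 q) (fun e => hq ?_) w, smul_zero]
      rw [← QuotientGroup.eq, hx2, hx2] at e
      exact Subtype.ext e.symm
    · intro hi
      exact (hi (Finset.mem_univ i)).elim
  have h1 := hli.fintype_card_le_finrank
  rw [Module.finrank_linearMap, ← Nat.card_eq_fintype_card, ← sq] at h1
  calc (SS r A z).ncard ≤ (QuotientGroup.mk ⁻¹' T : Set M).ncard :=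
        Set.ncard_le_ncard (Set.subset_preimage_image _ _) (Set.toFinite _)
    _ = r * Nat.card T := by
        rw [← Nat.card_coe_set_eq, QuotientGroup.card_preimage_mk, Nat.card_zpowers, hz.ord]
    _ ≤ _ := Nat.mul_le_mul_left _ h1

end Cfsg.Agent.DerG
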