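import Cfsg.Agent.DerG.Defs
import Cfsg.Agent.Ch.LinFT
import Cfsg.Agent.Perm.PermChar

/-! The rank of a group with a regular abelian subgroup containing the centralizers of its
non-trivial elements. -/

set_option autoImplicit false
set_option linter.unusedSectionVars false

namespace Cfsg.Agent.DerG

open MulAction Subgroup

variable {G Ω : Type*} [Group G] [Finite G] [MulAction G Ω] [Finite Ω]

namespace TI

open Cfsg Cfsg.Agent.Ch

/-- Sums over a set on which `K` acts freely by conjugation. -/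
theorem sum_free {K : Subgroup G} {f : G → ℂ} (hf : IsClassFunction G f)
    (hi : ∀ x, IsIntegral ℤ (f x)) (S : Finset G) (hS : ∀ u ∈ K, ∀ x ∈ S, u * x * u⁻¹ ∈ S)
    (hfree : ∀ u ∈ K, ∀ x ∈ S, u * x * u⁻¹ = x → u = 1) :
    ∃ ω : ℂ, IsIntegral ℤ ω ∧ ∑ x ∈ S, f x = Nat.card K * ω := by
  classical
  have := Fintype.ofFinite K
  induction S using Finset.strongInduction with
  | H S ih =>
    rcases S.eq_empty_or_nonempty with rfl | ⟨x, hx⟩
    · exact ⟨0, isIntegral_zero, by simp⟩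
    set O : Finset G := Finset.univ.image fun u : K => (u : G) * x * (u : G)⁻¹ with hO
    have hsub : O ⊆ S := by
      intro y hy
      obtain ⟨u, -, rfl⟩ := Finset.mem_image.1 hy
      exact hS u u.2 x hx
    have hxO : x ∈ O := Finset.mem_image.2 ⟨1, Finset.mem_univ _, by simp⟩
    obtain ⟨ω, hω, e⟩ := ih (S \ O) (Finset.sdiff_ssubset hsub ⟨x, hxO⟩) (fun u hu y hy => by
      rw [Finset.mem_sdiff] at hy ⊢
      refine ⟨hS u hu y hy.1, fun h => hy.2 ?_⟩
      obtain ⟨v, -, e⟩ := Finset.mem_image.1 h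
      refine Finset.mem_image.2 ⟨⟨u⁻¹ * v, K.mul_mem (K.inv_mem hu) v.2⟩, Finset.mem_univ _, ?_⟩
      calc u⁻¹ * (v : G) * x * (u⁻¹ * (v : G))⁻¹ = u⁻¹ * ((v : G) * x * (v : G)⁻¹) * u := by group
        _ = y := by rw [e]; group) fun u hu y hy => hfree u hu y (Finset.mem_sdiff.1 hy).1
    refine ⟨ω + f x, hω.add (hi x), ?_⟩
    rw [← Finset.sum_sdiff hsub, e, hO, Finset.sum_image, mul_add]
    · simp only [hf.conj_eq, Finset.sum_const, Finset.card_univ, nsmul_eq_mul,
        Nat.card_eq_fintype_card]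
    · intro u _ v _ h
      have := hfree ((v : G)⁻¹ * u) (K.mul_mem (K.inv_mem v.2) u.2) x hx (by
        calc (v : G)⁻¹ * u * x * ((v : G)⁻¹ * u)⁻¹ = (v : G)⁻¹ * ((u : G) * x * (u : G)⁻¹) * v := by
              group
          _ = x := by rw [show (u : G) * x * (u : G)⁻¹ = (v : G) * x * (v : G)⁻¹ from h]; group)
      exact Subtype.ext (inv_mul_eq_one.1 this).symm

theorem card_trans {H : Subgroup G} (h : ∀ a b : Ω, ∃ x ∈ H, x • a = b) (a : Ω) :
    Nat.card H = Nat.card Ω * Nat.card ↥(H ⊓ stabilizer G a) := by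
  have h1 : orb H a = Set.univ := Set.eq_univ_of_forall fun b => h a b
  have h2 := ncard_orb H a
  rw [h1, Set.ncard_univ] at h2
  rw [h2, ← inf_relIndex_left, relIndex, ← index_mul_card ((H ⊓ stabilizer G a).subgroupOf H),
    Nat.card_congr (subgroupOfEquivOfLe inf_le_left).toEquiv]

theorem num {n t k s : ℕ} (hk : 0 < k) (hn : n = t * k + 1) (h2 : 2 ≤ s) (ht : s + 2 ≤ t)
    (h : n * (s * k) < n * k + (s * k) ^ 2) : False := by
  obtain ⟨d, rfl⟩ : ∃ d, t = s + 2 + d := ⟨t - (s + 2), by omega⟩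
  obtain ⟨s, rfl⟩ : ∃ s', s = s' + 2 := ⟨s - 2, by omega⟩
  have h1 : n * (s + 2) < n + (s + 2) ^ 2 * k := by
    refine Nat.lt_of_mul_lt_mul_right (a := k) ?_
    calc n * (s + 2) * k = n * ((s + 2) * k) := by ring
      _ < n * k + ((s + 2) * k) ^ 2 := h
      _ = _ := by ring
  subst hn
  nlinarith [Nat.zero_le (s * d * k), Nat.zero_le (d * k), Nat.zero_le (s * k)]

theorem sum_sub {M : Type*} [AddCommMonoid M] [Fintype G] (H : Subgroup G) [Fintype H] (S : Set G)
    [DecidablePred (· ∈ S)] (hS : ∀ x ∈ S, x ∈ H) (f : G → M) :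
    ∑ x : H with x.1 ∈ S, f x.1 = ∑ x with x ∈ S, f x :=
  Finset.sum_bij (fun x _ => x.1) (fun x hx => by simpa using hx) (fun _ _ _ _ h => Subtype.ext h)
    (fun y hy => ⟨⟨y, hS y (by simpa using hy)⟩, by simpa using hy, rfl⟩) fun _ _ => rfl

theorem sum_P {M : Type*} [AddCommMonoid M] [Fintype G] (P : Subgroup G) [Fintype P]
    [DecidablePred (· ∈ {x | x ∈ P ∧ x ≠ 1})] (f : G → M) :
    ∑ x : P, f x.1 = f 1 + ∑ x with x ∈ {x | x ∈ P ∧ x ≠ 1}, f x := by
  classical
  rw [← sum_sub P _ (fun x hx => hx.1) f, ← Finset.add_sum_erase _ _ (Finset.mem_univ (1 : P))]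
  congr 1
  refine Finset.sum_congr ?_ fun _ _ => rfl
  ext x
  simp

end TI

open Cfsg Cfsg.Agent.Ch TI in
theorem Reg.ti_orbits {P : Subgroup G} (hP : Reg Ω P)
    (hC : ∀ x ∈ P, x ≠ 1 → ∀ g, g * x = x * g → g ∈ P) (a : Ω) :
    Nat.card (orbitRel.Quotient (stabilizer G a) Ω) ≤ 3 ∨
      Nat.card Ω + Nat.card ↥(normalizer (P : Set G) ⊓ stabilizer G a) =
        Nat.card (orbitRel.Quotient (stabilizer G a) Ω) *
          Nat.card ↥(normalizer (P : Set G) ⊓ stabilizer G a) + 1 := by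
  classical
  have := Fintype.ofFinite G
  have : Nonempty Ω := ⟨a⟩
  have : IsPretransitive G Ω := ⟨fun b c => (hP.trans b c).imp fun _ h => h.2⟩
  set N := normalizer (P : Set G) with hN
  set K := N ⊓ stabilizer G a with hK
  set S : Set G := {x | x ∈ P ∧ x ≠ 1} with hS
  have cP : Nat.card P = Nat.card Ω := by
    have : P ⊓ stabilizer G a = ⊥ :=
      (eq_bot_iff_forall _).2 fun x hx => hP.free x (mem_inf.1 hx).1 a (mem_inf.1 hx).2
    rw [card_trans hP.trans a, this, card_bot, mul_one]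
  have cN : Nat.card N = Nat.card Ω * Nat.card K :=
    card_trans (fun b c => (hP.trans b c).imp fun _ h => ⟨le_normalizer h.1, h.2⟩) a
  have hk : 0 < Nat.card K := Nat.card_pos
  have hNS : ∀ g ∈ N, ∀ t, g * t * g⁻¹ ∈ S ↔ t ∈ S := fun g hg t =>
    and_congr (mem_normalizer_iff.1 hg t).symm (by simp)
  have hTI : ∀ g : G, g ∉ N → ∀ t ∈ S, g * t * g⁻¹ ∉ S := fun g hg t ht h =>
    hg (mem_normalizer_fintype fun y hy => hC _ h.1 h.2 _ (by
      calc g * y * g⁻¹ * (g * t * g⁻¹) = g * (y * t) * g⁻¹ := by group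
        _ = g * t * g⁻¹ * (g * y * g⁻¹) := by rw [hP.comm y hy t ht.1]; group))
  have free : ∀ {f : G → ℂ}, IsCharacter G f →
      ∃ ω : ℂ, IsIntegral ℤ ω ∧ ∑ x with x ∈ S, f x = Nat.card K * ω := fun {f} hf =>
    sum_free hf.isClassFunction hf.isIntegral _
      (fun u hu x hx => by
        rw [Finset.mem_filter] at hx ⊢
        exact ⟨Finset.mem_univ _, (hNS u hu.1 x).2 hx.2⟩)
      fun u hu x hx e => by
        rw [Finset.mem_filter] at hx
        exact hP.free u (hC x hx.2.1 hx.2.2 u (mul_inv_eq_iff_eq_mul.1 e)) a hu.2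
  have hπ : IsCharacter G (Perm.permChar G Ω) := isCharacter_permChar Ω
  obtain ⟨m, hm, hr, hd⟩ := hπ.exists_nat_classInner_self
  rw [Perm.classInner_permChar_self_eq_rank a, Nat.cast_inj] at hr
  rw [hπ.charDegree_eq_iff.2 Perm.permChar_apply_one] at hd
  choose b hb hb2 hbd using fun ψ : IrrCharacter G =>
    (ψ.isCharacter.restrict P).exists_nat_classInner_self
  have lin : ∀ l : IrrCharacter P, (l : P → ℂ) 1 = 1 := fun l =>
    l.2.apply_one_eq_one_of_comm fun x y => Subtype.ext (hP.comm x x.2 y y.2)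
  have hbd' : ∀ ψ : IrrCharacter G, charDegree (ψ : G → ℂ) = ∑ l, b ψ l := fun ψ => by
    rw [← charDegree_comp (ψ : G → ℂ) P.subtype]
    refine (hbd ψ).trans (Finset.sum_congr rfl fun l _ => ?_)
    rw [l.isCharacter.charDegree_eq_one_iff.2 (lin l), mul_one]
  have reg : (fun x : P => Perm.permChar G Ω x) = regChar P := by
    funext x
    rw [regChar_apply]
    split_ifs with h
    · rw [h, cP]
      exact Perm.permChar_apply_one
    · have : IsEmpty (fixedBy Ω (x : G)) := ⟨fun w => h (Subtype.ext (hP.free x x.2 w w.2))⟩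
      simp
  have key : ∀ l : IrrCharacter P, ∑ ψ, m ψ * b ψ l = 1 := fun l => by
    have h1 := classInner_regChar_left (l : P → ℂ)
    have h2 : (fun x : P => Perm.permChar G Ω x) =
        ∑ ψ : IrrCharacter G, (m ψ : ℂ) • fun x : P => (ψ : G → ℂ) x := by
      funext x
      rw [hπ.isClassFunction.apply_eq_sum_irr, Finset.sum_apply]
      exact Finset.sum_congr rfl fun ψ _ => by rw [hm]; rfl
    rw [← reg, h2, classInner_sum_left, lin, map_one] at h1
    simp only [classInner_smul_left, hb] at h1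
    exact_mod_cast h1
  have le1 : ∀ ψ l, m ψ * b ψ l ≤ 1 := fun ψ l =>
    key l ▸ Finset.single_le_sum (f := fun ψ => m ψ * b ψ l) (fun _ _ => Nat.zero_le _)
      (Finset.mem_univ ψ)
  have m1 : m (irrOne G) = 1 := by
    have := hm (irrOne G)
    rw [show ((irrOne G : IrrCharacter G) : G → ℂ) = fun _ => 1 from rfl,
      Perm.classInner_permChar_one] at this
    exact_mod_cast this.symm
  have b1 : b (irrOne G) (irrOne P) = 1 := by
    have := hb (irrOne G) (irrOne P)
    rw [show (fun x : P => ((irrOne G : IrrCharacter G) : G → ℂ) x) = (irrOne P : IrrCharacter P)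
      from rfl, (irrOne P).2.classInner_self] at this
    exact_mod_cast this.symm
  have mle : ∀ ψ, m ψ ≤ 1 := fun ψ => by
    have h1 := ψ.2.charDegree_pos
    rw [hbd'] at h1
    obtain ⟨l, -, hl⟩ := Finset.exists_ne_zero_of_sum_ne_zero h1.ne'
    exact (Nat.le_mul_of_pos_right _ (Nat.pos_of_ne_zero hl)).trans (le1 ψ l)
  set C : Finset (IrrCharacter G) := (Finset.univ.filter fun ψ => m ψ = 1).erase (irrOne G) with hCd
  have split : ∀ f : IrrCharacter G → ℕ, ∑ ψ, m ψ * f ψ = f (irrOne G) + ∑ ψ ∈ C, f ψ := fun f => by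
    rw [hCd, Finset.add_sum_erase (Finset.univ.filter fun ψ => m ψ = 1) f
      (Finset.mem_filter.2 ⟨Finset.mem_univ _, m1⟩), Finset.sum_filter]
    refine Finset.sum_congr rfl fun ψ _ => ?_
    rcases Nat.le_one_iff_eq_zero_or_eq_one.1 (mle ψ) with h | h <;> simp [h]
  have hmC : ∀ ψ ∈ C, m ψ = 1 := fun ψ h => (Finset.mem_filter.1 (Finset.mem_of_mem_erase h)).2
  have rank : Nat.card (orbitRel.Quotient (stabilizer G a) Ω) = 1 + C.card := by
    rw [hr, Finset.sum_congr rfl fun ψ _ => sq (m ψ), split, m1, Finset.sum_congr rfl hmC]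
    simp
  have deg : Nat.card Ω = 1 + ∑ ψ ∈ C, charDegree (ψ : G → ℂ) := by
    rw [hd, split, (irrOne G).isCharacter.charDegree_eq_one_iff.2 rfl]
  have b0 : ∀ ψ ∈ C, b ψ (irrOne P) = 0 := fun ψ h => by
    have := key (irrOne P)
    rw [split, b1, add_eq_left] at this
    exact Finset.sum_eq_zero_iff.1 this ψ h
  have dvd : ∀ ψ ∈ C, Nat.card K ∣ charDegree (ψ : G → ℂ) := fun ψ h => by
    obtain ⟨ω, hω, e⟩ := free ψ.isCharacter
    have h1 := hb ψ (irrOne P)
    rw [b0 ψ h, show ((irrOne P : IrrCharacter P) : P → ℂ) = fun _ => 1 from rfl,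
      classInner_one_right, Nat.cast_zero, mul_eq_zero,
      or_iff_right (inv_ne_zero (natCard_ne_zero P)), sum_P, e, ← ψ.2.coe_charDegree] at h1
    exact integral_nat_dvd_of_eq_mul hω.neg (by linear_combination h1)
  have bound : ∀ ψ ∈ C, Nat.card Ω * charDegree (ψ : G → ℂ) <
      Nat.card Ω * Nat.card K + charDegree (ψ : G → ℂ) ^ 2 := fun ψ h => by
    have h1 := linFT_sum_lt (N := N) S hTI hNS (fun h => h.2 rfl) ψ.2
    rw [sum_sub N S (fun x hx => le_normalizer hx.1) fun x => ‖(ψ : G → ℂ) x‖ ^ 2, cN] at h1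
    have h2 := congrArg Complex.re (hb2 ψ)
    rw [re_classInner_self, Finset.sum_congr rfl (g := fun l => b ψ l) fun l _ => by
      have := le1 ψ l
      rw [hmC ψ h, one_mul] at this
      rcases Nat.le_one_iff_eq_zero_or_eq_one.1 this with h | h <;> simp [h], ← hbd',
      Complex.natCast_re, sum_P P fun x => ‖(ψ : G → ℂ) x‖ ^ 2, ψ.isCharacter.norm_apply_one, cP,
      inv_mul_eq_iff_eq_mul₀ (by exact_mod_cast Nat.card_pos.ne')] at h2
    have h3 : (Nat.card Ω : ℝ) * charDegree (ψ : G → ℂ) <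
        (Nat.card Ω * Nat.card K : ℕ) + (charDegree (ψ : G → ℂ) : ℝ) ^ 2 := by linarith
    exact_mod_cast h3
  choose! s hs using dvd
  have s1 : ∀ ψ ∈ C, 1 ≤ s ψ := fun ψ h => Nat.pos_of_ne_zero fun e => by
    have := ψ.2.charDegree_pos
    rw [hs ψ h, e] at this
    simp at this
  have hn : Nat.card Ω = (∑ ψ ∈ C, s ψ) * Nat.card K + 1 := by
    rw [deg, Finset.sum_congr rfl hs, ← Finset.mul_sum]
    ring
  refine (le_or_gt _ 3).imp_right fun h3 => ?_
  have all : ∀ ψ ∈ C, s ψ = 1 := fun ψ h => by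
    by_contra hne
    have h4 : (C.erase ψ).card • 1 ≤ ∑ x ∈ C.erase ψ, s x :=
      Finset.card_nsmul_le_sum (C.erase ψ) s 1 fun χ hχ => s1 χ (Finset.mem_of_mem_erase hχ)
    rw [Finset.card_erase_of_mem h, smul_eq_mul, mul_one] at h4
    have h5 := Finset.add_sum_erase C s h
    have h6 := s1 ψ h
    have h7 := bound ψ h
    rw [hs ψ h, mul_comm (Nat.card K)] at h7
    exact num hk hn (s := s ψ) (by omega) (by omega) h7
  rw [rank, hn, Finset.sum_congr rfl all]
  simp only [Finset.sum_const, smul_eq_mul, mul_one]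
  ring

end Cfsg.Agent.DerG
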