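import Mathlib
import Cfsg.Agent.DerG.TI
import Cfsg.Agent.DerG.Fix

set_option autoImplicit false

namespace Cfsg.Agent.DerG

open MulAction Subgroup

variable {G Ω : Type*} [Group G] [Finite G] [MulAction G Ω] [Finite Ω]

omit [Finite G] in
/-- The rank of `D` exceeds its index. -/
theorem Ex.nonaff_rank {D : Subgroup G} (h : Ex Ω D) {a b : Ω} (hb : b ≠ a) :
    D.index + 1 ≤ Nat.card (orbitRel.Quotient (stabilizer D a) Ω) := by
  have := h.normal
  have key : ∀ q : G ⧸ D, ∃ g : G, g • a = a ∧ (g : G ⧸ D) = q := fun q => by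
    obtain ⟨u, rfl⟩ := QuotientGroup.mk_surjective q
    obtain ⟨d, hd, e⟩ := h.trans a (u⁻¹ • a)
    exact ⟨u * d, by rw [mul_smul, e, smul_inv_smul], QuotientGroup.mk_mul_of_mem u hd⟩
  choose g ga gq using key
  have rel : ∀ x y : Ω, (Quotient.mk'' x : orbitRel.Quotient (stabilizer D a) Ω) = Quotient.mk'' y →
      ∃ d ∈ D, d • a = a ∧ d • y = x := fun x y e => by
    obtain ⟨d, hd⟩ := orbitRel_apply.1 (Quotient.exact' e)
    exact ⟨d.1.1, d.1.2, d.2, hd⟩
  have ne : ∀ q, (Quotient.mk'' (g q • b) : orbitRel.Quotient (stabilizer D a) Ω) ≠ Quotient.mk'' a := fun q e => by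
    obtain ⟨d, -, h1, h2⟩ := rel _ _ e
    exact hb (smul_left_cancel (g q) (by rw [← h2, h1, ga]))
  let f : Option (G ⧸ D) → orbitRel.Quotient (stabilizer D a) Ω := fun o =>
    o.elim (Quotient.mk'' a) fun q => Quotient.mk'' (g q • b)
  have hf : Function.Injective f := by
    rintro (_ | q) (_ | q') e
    · rfl
    · exact absurd e.symm (ne q')
    · exact absurd e (ne q)
    · obtain ⟨d, hd, h1, h2⟩ := rel _ _ e
      have h3 : (g q)⁻¹ * d * g q' ∈ D := by
        by_contra hn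
        refine hb (h.one _ hn b a ?_ ?_)
        · rw [mul_smul, mul_smul, h2, inv_smul_smul]
        · rw [mul_smul, mul_smul, ga, h1, inv_smul_eq_iff, ga]
      have h4 : (g q)⁻¹ * g q' ∈ D := by
        have := mul_mem (inv_mem (this.conj_mem d hd (g q)⁻¹)) h3
        rwa [show ((g q)⁻¹ * d * (g q)⁻¹⁻¹)⁻¹ * ((g q)⁻¹ * d * g q') = (g q)⁻¹ * g q' by group] at this
      rw [← gq q, ← gq q', QuotientGroup.eq.2 h4]
  have : Finite (G ⧸ D) := Finite.of_injective _ (hf.comp (Option.some_injective _))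
  rw [index, ← Finite.card_option]
  exact Nat.card_le_card_of_injective f hf

theorem Ex.nonaff [FaithfulSMul G Ω] {D P : Subgroup G} (h : Ex Ω D) (hPD : P ≤ D) (hP : Reg Ω P)
    (hF : normalizer (P : Set G) ⊔ D = ⊤) (hC : ∀ x ∈ P, x ≠ 1 → ∀ g, g * x = x * g → g ∈ P)
    (hn : ¬ P.Normal) (h3 : 3 ≤ D.index) : (D.index + 1) ^ 2 ≤ Nat.card Ω := by
  obtain ⟨x, -, x1⟩ : ∃ x ∈ P, x ≠ 1 := by
    by_contra hc
    push Not at hc
    exact hn (((eq_bot_iff_forall P).2 hc).symm ▸ inferInstance)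
  obtain ⟨a, ha⟩ : ∃ a : Ω, x • a ≠ a := by
    by_contra hc
    push Not at hc
    exact x1 (FaithfulSMul.eq_of_smul_eq_smul (α := Ω) fun a => by rw [hc, one_smul])
  have hP' : Reg Ω (P.subgroupOf D) := ⟨fun x hx y hy => Subtype.ext (hP.comm _ hx _ hy), fun a b => by
    obtain ⟨x, hx, e⟩ := hP.trans a b
    exact ⟨⟨x, hPD hx⟩, hx, e⟩, fun x hx a e => Subtype.ext (hP.free _ hx a e)⟩
  have hC' : ∀ x ∈ P.subgroupOf D, x ≠ 1 → ∀ g, g * x = x * g → g ∈ P.subgroupOf D := fun x hx h1 g e =>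
    hC _ hx (fun e1 => h1 (Subtype.ext e1)) _ (congrArg Subtype.val e)
  have hn' : ¬ (P.subgroupOf D).Normal := fun c => hn (normalizer_eq_top_iff.1 (by
    rw [← hF, sup_eq_left.2 ((normal_subgroupOf_iff_le_normalizer hPD).1 c)]))
  have hr := h.nonaff_rank ha
  rcases hP'.ti_orbits hC' a with h1 | h1
  · omega
  obtain ⟨t, ht⟩ : ∃ t, Nat.card (orbitRel.Quotient (stabilizer D a) Ω) = t + 1 := ⟨_, (Nat.sub_add_cancel (by omega)).symm⟩
  rw [ht, add_mul, one_mul] at h1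
  have h2 : Nat.card Ω = t * Nat.card ↥(normalizer (P.subgroupOf D : Set D) ⊓ stabilizer D a) + 1 := by omega
  have h4 := hP'.fix_bound hC' hn' a h2 ht
  have h5 : D.index ≤ t := by omega
  rw [h2]
  calc (D.index + 1) ^ 2 = D.index * (D.index + 2) + 1 := by ring
    _ ≤ _ := Nat.add_le_add_right (Nat.mul_le_mul h5 (by omega)) 1

end Cfsg.Agent.DerG
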