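import Cfsg.Agent.DerG.Defs
import Cfsg.Agent.Loc.MssSyl

set_option autoImplicit false

namespace Cfsg.Agent.DerG

open MulAction Subgroup

variable {G Ω : Type*} [Group G] [Finite G] [MulAction G Ω] [Finite Ω]

namespace PP

open Cfsg.Agent.Loc.Mss

/-- The Frattini argument for a supplement of `D`. -/
theorem fratt {p : ℕ} [Fact p.Prime] {D K Q : Subgroup G} [D.Normal] (hK : K ⊔ D = ⊤) (hQ : Syl p Q (D ⊓ K)) :
    (K ⊓ 𝐍[Q]) ⊔ D = ⊤ := by
  have e := hQ.frattini_sup inf_le_right (norm_inf (norm_normal K D) le_normalizer)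
  refine top_le_iff.1 (hK.ge.trans (sup_le (e.ge.trans (sup_le (inf_le_left.trans le_sup_right) le_sup_left))
    le_sup_right))

omit [Finite G] in
/-- Counting pairs. -/
theorem ncard_pairs {F : Set Ω} {S : Ω → Set Ω} {c : ℕ} (h : ∀ b ∈ F, (S b).ncard = c) :
    {x : Ω × Ω | x.1 ∈ F ∧ x.2 ∈ S x.1}.ncard = F.ncard * c := by
  have := Fintype.ofFinite F
  let e : {x : Ω × Ω | x.1 ∈ F ∧ x.2 ∈ S x.1} ≃ Σ b : F, S b :=
    { toFun := fun x => ⟨⟨x.1.1, x.2.1⟩, ⟨x.1.2, x.2.2⟩⟩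
      invFun := fun y => ⟨(y.1, y.2), y.1.2, y.2.2⟩
      left_inv := fun _ => rfl
      right_inv := fun _ => rfl }
  rw [← Nat.card_coe_set_eq, Nat.card_congr e, Nat.card_sigma,
    Finset.sum_congr rfl fun b _ => (Nat.card_coe_set_eq _).trans (h b.1 b.2), Finset.sum_const, Finset.card_univ,
    smul_eq_mul, ← Nat.card_eq_fintype_card, Nat.card_coe_set_eq]

end PP

open PP Cfsg.Agent.Loc.Mss in
theorem Ex.card_eq_pow {D : Subgroup G} (h : Ex Ω D) (hn : Nat.card Ω < (D.index + 1) ^ 2)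
    {p : ℕ} [Fact p.Prime] (h0 : Nat.card Ω ≠ 0) (hd : p ∣ Nat.card Ω) :
    ∃ c, Nat.card Ω = p ^ c := by
  have := h.normal
  obtain ⟨a⟩ := (Nat.card_ne_zero.1 h0).1
  have : Nonempty Ω := ⟨a⟩
  have hH : stabilizer G a ⊔ D = ⊤ := by
    have := h.stab_sup (K := ⊤) (top_sup_eq D) a fun k _ => by
      obtain ⟨d, hd, e⟩ := h.trans a (k • a)
      exact ⟨d, ⟨trivial, hd⟩, e⟩
    rwa [top_inf_eq] at this
  have idx : (D ⊓ stabilizer G a).relIndex D = Nat.card Ω := by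
    rw [inf_relIndex_left, ← ncard_orb, ← Set.ncard_univ]
    exact congrArg _ (Set.eq_univ_of_forall fun b => h.trans a b)
  obtain ⟨Q, hQ⟩ := Syl.exists p (D ⊓ stabilizer G a)
  obtain ⟨F, hF⟩ : ∃ F : Set Ω, ∀ b, b ∈ F ↔ ∀ q ∈ Q, q • b = b := ⟨{b | ∀ q ∈ Q, q • b = b}, fun _ => Iff.rfl⟩
  have aF : a ∈ F := (hF a).2 fun q hq => (hQ.le hq).2
  have QD : Q ≤ D := hQ.le.trans inf_le_left
  have sylb : ∀ b ∈ F, Syl p Q (D ⊓ stabilizer G b) := fun b hb => by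
    obtain ⟨d, -, rfl⟩ := h.trans a b
    have k := hQ.cj d
    rw [cj_inf, cj_normal D, ← stabilizer_smul_eq_stabilizer_map_conj] at k
    exact k.of_card_le hQ.pg (le_inf QD fun q hq => (hF _).1 hb q hq) (card_cj Q d).le
  have inv : ∀ k ∈ 𝐍[Q], ∀ b ∈ F, k • b ∈ F := fun k hk b hb => (hF _).2 fun q hq => by
    conv_rhs => rw [← (hF b).1 hb _ (conj_mem_of_norm' hk hq)]
    rw [smul_smul, smul_smul, ← mul_assoc, mul_inv_cancel_left]
  have hL := fratt hH hQ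
  have d1 := h.dvd_sub_one hL (fun l hl => hl.1) aF fun l hl => inv l hl.2
  have hK : 𝐍[Q] ⊔ D = ⊤ := top_le_iff.1 (hL.ge.trans (sup_le_sup_right inf_le_right D))
  obtain ⟨P, QP, hP⟩ := Syl.exists_ge hQ.pg (le_inf QD le_normalizer)
  have PD : P ≤ D := hP.le.trans inf_le_left
  have hY := fratt hK hP
  obtain ⟨e, he⟩ : ∃ e, Q.relIndex P = p ^ e := hP.pg.index _
  have m1 := relIndex_mul_relIndex _ _ _ QP PD
  have m2 := relIndex_mul_relIndex _ _ _ hQ.le (inf_le_left : D ⊓ stabilizer G a ≤ D)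
  rw [idx] at m2
  have c1 : 1 < Q.relIndex P := by
    refine lt_of_le_of_ne (Nat.pos_of_ne_zero index_ne_zero_of_finite) fun k => ?_
    have PQ := relIndex_eq_one.1 k.symm
    refine (Syl.of_norm hQ.pg QD fun R hR h1 h2 h3 =>
      (hP.ge_of_le hR (PQ.trans h1) (le_inf h2 h3)).trans PQ).nd ?_
    rw [← m2]
    exact hd.mul_left _
  have c2 : Q.relIndex P ∣ Nat.card Ω := by
    refine Nat.Coprime.dvd_of_dvd_mul_left (m := Q.relIndex (D ⊓ stabilizer G a)) ?_ ⟨_, m2.trans m1.symm⟩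
    rw [he]
    exact ((Nat.Prime.coprime_iff_not_dvd Fact.out).2 hQ.nd).pow_left e
  have c3 : ∀ b ∈ F, (orb P b \ {b}).ncard = Q.relIndex P - 1 := fun b hb => by
    rw [Set.ncard_sdiff_singleton_of_mem (self_mem_orb P b), ncard_orb, ← inf_relIndex_left,
      (sylb b hb).eq_of_le hP.pg.to_inf_left (le_inf QP fun q hq => (hF _).1 hb q hq) (inf_le_inf_right _ PD)]
  have d2 : D.index ∣ F.ncard * (Q.relIndex P - 1) := by
    rw [← ncard_pairs c3, ← relIndex_eq_index hY]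
    refine relIndex_dvd (Set.toFinite _) (fun k hk x hx => ⟨inv k hk.1 _ hx.1, ?_, fun o => hx.2.2 ?_⟩)
      fun k _ x hx o => by_contra fun hk => hx.2.2 (h.one k hk _ _ (congrArg Prod.snd o) (congrArg Prod.fst o))
    · obtain ⟨y, hy, o⟩ := hx.2.1
      refine ⟨_, conj_mem_of_norm hk.2 hy, ?_⟩
      change (k * y * k⁻¹) • k • x.1 = k • x.2
      rw [smul_smul, inv_mul_cancel_right, mul_smul, o]
    · exact smul_left_cancel k o
  have d3 : D.index ∣ Q.relIndex P - 1 := by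
    obtain ⟨f, hf⟩ : ∃ f, F.ncard = f + 1 :=
      Nat.exists_eq_succ_of_ne_zero ((Set.ncard_pos (Set.toFinite F)).2 ⟨a, aF⟩).ne'
    rw [hf, Nat.add_sub_cancel] at d1
    rw [hf, add_mul, one_mul] at d2
    exact (Nat.dvd_add_right (d1.mul_right _)).1 d2
  refine ⟨e, he ▸ (((Nat.le_of_dvd (Nat.pos_of_ne_zero h0) c2).lt_or_eq).resolve_left fun k => ?_).symm⟩
  exact hn.not_ge (sq_le_of_dvd c1 k c2 d3 h.dvd_card)

end Cfsg.Agent.DerG
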