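import Cfsg.Agent.DerG.Defs
import Cfsg.Prelude.Def_Transfer

/-! The Sylow subgroup is a regular elementary abelian group. -/

set_option autoImplicit false

namespace Cfsg.Agent.DerG

open MulAction Subgroup

variable {G Ω : Type*} [Group G] [Finite G] [MulAction G Ω] [Finite Ω]

omit [Finite G] in
theorem Reg.pow_orb {p : ℕ} [Fact p.Prime] {E : Subgroup G} [Finite E] (hE : IsPGroup p E) (a : Ω) :
    ∃ k, (orb E a).ncard = p ^ k := by
  rw [ncard_orb]
  exact hE.index _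

omit [Finite G] in
theorem Reg.univ_of_card {S : Set Ω} (h : Nat.card Ω ≤ S.ncard) (b : Ω) : b ∈ S := by
  rw [Set.eq_of_subset_of_ncard_le (Set.subset_univ S) (by rwa [Set.ncard_univ])]
  trivial

theorem Reg.syl_trans {D : Subgroup G} (h : Ex Ω D) {p c : ℕ} [hp : Fact p.Prime] (hc : Nat.card Ω = p ^ c)
    (P : Sylow p G) (a b : Ω) : ∃ x ∈ (P : Subgroup G), x • a = b := by
  have h1 : (stabilizer G a).index = Nat.card Ω := by
    rw [← relIndex_top_right, ← ncard_orb, ← Set.ncard_univ]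
    congr 1
    refine Set.eq_univ_of_forall fun y => ?_
    obtain ⟨d, -, e⟩ := h.trans a y
    exact ⟨d, trivial, e⟩
  have h2 : Nat.card Ω ∣ (stabilizer G a).relIndex P * (P : Subgroup G).index := by
    rw [← inf_relIndex_left, relIndex_mul_index inf_le_left, ← h1]
    exact index_dvd_of_le inf_le_right
  have h3 : (Nat.card Ω).Coprime (P : Subgroup G).index := by
    rw [hc]
    exact Nat.Coprime.pow_left _ (hp.out.coprime_iff_not_dvd.2 P.not_dvd_index)
  refine Reg.univ_of_card (S := orb (P : Subgroup G) a) ?_ b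
  rw [ncard_orb]
  exact Nat.le_of_dvd (Nat.pos_of_ne_zero index_ne_zero_of_finite) (h3.dvd_of_dvd_mul_right h2)

/-- The elements of order dividing `p` in the centre of `P`. -/
def Reg.om (p : ℕ) (P : Subgroup G) : Subgroup G where
  carrier := {x | x ∈ P ∧ (∀ y ∈ P, Commute y x) ∧ x ^ p = 1}
  one_mem' := ⟨P.one_mem, fun _ _ => Commute.one_right _, one_pow _⟩
  mul_mem' := fun {a b} ha hb => ⟨P.mul_mem ha.1 hb.1, fun y hy => (ha.2.1 y hy).mul_right (hb.2.1 y hy),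
    by rw [(hb.2.1 a ha.1).mul_pow, ha.2.2, hb.2.2, one_mul]⟩
  inv_mem' := fun {a} ha => ⟨P.inv_mem ha.1, fun y hy => (ha.2.1 y hy).inv_right, by rw [inv_pow, ha.2.2, inv_one]⟩

theorem Ex.reg [FaithfulSMul G Ω] {D : Subgroup G} (h : Ex Ω D)
    (hn : Nat.card Ω < (D.index + 1) ^ 2) {p c : ℕ} [Fact p.Prime] (hc : Nat.card Ω = p ^ (c + 1))
    (P : Sylow p G) :
    (P : Subgroup G) ≤ D ∧ Cfsg.IsElementaryAbelian p (P : Subgroup G) ∧ Reg Ω (P : Subgroup G) ∧
      normalizer ((P : Subgroup G) : Set G) ⊔ D = ⊤ := by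
  have hp : p.Prime := Fact.out
  have := h.normal
  have n1 : 1 < Nat.card Ω := hc ▸ Nat.one_lt_pow (by omega) hp.one_lt
  have : Nontrivial Ω := Finite.one_lt_card_iff_nontrivial.1 n1
  have hm := h.dvd_card
  have tr := Reg.syl_trans h hc P
  have hPD : (P : Subgroup G) ≤ D := by
    obtain ⟨k, hk⟩ := P.isPGroup'.index (D.subgroupOf P)
    rcases k with _ | k
    · exact relIndex_eq_one.1 hk
    · exfalso
      have h1 : p ∣ Nat.card Ω - 1 :=
        ((dvd_pow_self p k.succ_ne_zero).trans (hk ▸ relIndex_dvd_index_of_normal D P)).trans hm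
      have h2 : p ∣ Nat.card Ω := hc ▸ dvd_pow_self p c.succ_ne_zero
      have := Nat.dvd_sub h2 h1
      rw [show Nat.card Ω - (Nat.card Ω - 1) = 1 by omega] at this
      exact hp.one_lt.ne' (Nat.dvd_one.1 this)
  have hF := P.normalizer_sup_eq_top' hPD
  obtain ⟨a, b, hab⟩ := exists_pair_ne Ω
  set E := Reg.om p (P : Subgroup G) with hE
  have fixE : ∀ x : G, (∀ y ∈ (P : Subgroup G), Commute y x) → ∀ a : Ω, x • a = a → x = 1 :=
    fun x hx a e => eq_of_smul_eq_smul fun b : Ω => by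
      obtain ⟨y, hy, rfl⟩ := tr a b
      rw [← mul_smul, ← (hx y hy).eq, mul_smul, e, one_smul]
  obtain ⟨z, hz, z1⟩ : ∃ z ∈ E, z ≠ 1 := by
    have : Nontrivial (P : Subgroup G) := by
      obtain ⟨x, hx, e⟩ := tr a b
      exact ⟨⟨x, hx⟩, 1, fun e' => hab (by rw [← e, show x = 1 from congrArg Subtype.val e', one_smul])⟩
    have := P.isPGroup'.center_nontrivial
    obtain ⟨k, hk, hk'⟩ := (P.isPGroup'.to_subgroup (center _)).nontrivial_iff_card.1 this
    obtain ⟨z, hz⟩ := exists_prime_orderOf_dvd_card' (G := center (P : Subgroup G)) p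
      (hk' ▸ dvd_pow_self p hk.ne')
    refine ⟨z.1.1, ⟨z.1.2, fun y hy => congrArg Subtype.val (mem_center_iff.1 z.2 ⟨y, hy⟩), ?_⟩, fun e => ?_⟩
    · exact congrArg (fun t : center (P : Subgroup G) => t.1.1) (hz ▸ pow_orderOf_eq_one z)
    · rw [show z = 1 from Subtype.ext (Subtype.ext e), orderOf_one] at hz
      exact hp.one_lt.ne hz
  have hL := h.stab_sup hF a fun k _ => by
    obtain ⟨d, hd, e⟩ := tr a (k • a)
    exact ⟨d, ⟨le_normalizer hd, hPD hd⟩, e⟩
  have h1 := h.dvd_sub_one hL (fun l hl => hl.2) (self_mem_orb E a) (by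
    rintro l ⟨hl, hl'⟩ _ ⟨e, he, rfl⟩
    have hl1 := mem_normalizer_iff.1 hl
    refine ⟨l * e * l⁻¹, ⟨(hl1 e).1 he.1, fun y hy => ?_, by rw [conj_pow, he.2.2, mul_one, mul_inv_cancel]⟩, ?_⟩
    · have := he.2.1 (l⁻¹ * y * l) ((hl1 _).2 (by simpa [mul_assoc] using hy))
      calc y * (l * e * l⁻¹) = l * (l⁻¹ * y * l * e) * l⁻¹ := by group
        _ = _ := by rw [this.eq]; group
    · rw [mul_smul, mul_smul, (stabilizer G a).inv_mem hl'])
  obtain ⟨k, hk⟩ := Reg.pow_orb (P.isPGroup'.to_le (fun _ hx => hx.1 : E ≤ P)) a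
  have hle : (orb E a).ncard ≤ Nat.card Ω := by
    rw [← Set.ncard_univ]
    exact Set.ncard_le_ncard (Set.subset_univ _)
  have h2 : 1 < (orb E a).ncard := (Set.one_lt_ncard (Set.toFinite _)).2
    ⟨_, ⟨z, hz, rfl⟩, a, self_mem_orb E a, fun e => z1 (fixE z hz.2.1 a e)⟩
  have h3 : Nat.card Ω ≤ (orb E a).ncard := by
    by_contra hlt
    refine absurd (sq_le_of_dvd h2 (not_le.1 hlt) ?_ h1 hm) (not_le.2 hn)
    rw [hk, hc] at hle ⊢
    exact pow_dvd_pow p ((Nat.pow_le_pow_iff_right hp.one_lt).1 hle)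
  have hPE : ∀ x ∈ (P : Subgroup G), x ∈ E := fun x hx => by
    obtain ⟨e, he, ee⟩ := Reg.univ_of_card h3 (x • a)
    have : e⁻¹ * x = 1 := eq_of_smul_eq_smul fun b : Ω => by
      obtain ⟨y, hy, rfl⟩ := Reg.univ_of_card h3 b
      rw [← mul_smul, (hy.2.1 _ (mul_mem (inv_mem he.1) hx)).eq, mul_smul, mul_smul, ← ee, inv_smul_smul,
        one_smul]
    rwa [← inv_mul_eq_one.1 this]
  exact ⟨hPD, ⟨⟨⟨fun x y => Subtype.ext ((hPE y y.2).2.1 x x.2)⟩⟩, fun x hx => (hPE x hx).2.2⟩,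
    ⟨fun x hx y hy => (hPE y hy).2.1 x hx, tr, fun x hx => fixE x (hPE x hx).2.1⟩, hF⟩

end Cfsg.Agent.DerG
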