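import Cfsg.Agent.DerG.Defs

/-! Small shared facts about `Cz` and `SS`. -/

set_option autoImplicit false

namespace Cfsg.Agent.DerG

open MulAction Subgroup

variable {p r : ℕ} {M V : Type*} [Group M] [AddCommGroup V] [Module (ZMod p) V]
  {ρ : Representation (ZMod p) M V} {A R : Subgroup M} {z : M}

theorem Cz.pow_eq (hz : Cz r ρ A z) : z ^ r = 1 := hz.ord ▸ pow_orderOf_eq_one z

theorem Cz.ne_one [Fact r.Prime] (hz : Cz r ρ A z) : z ≠ 1 := fun e =>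
  (Fact.out : r.Prime).one_lt.ne' (by rw [← hz.ord, e, orderOf_one])

theorem Cz.zpowers_le (hz : Cz r ρ A z) : zpowers z ≤ A := (zpowers_le_of_mem hz.mem)

theorem Cz.cen' (hz : Cz r ρ A z) {c : M} (hc : c ∈ zpowers z) : ∀ a ∈ A, a * c = c * a := by
  obtain ⟨i, rfl⟩ := hc
  exact fun a ha => (Commute.zpow_right (hz.cen a ha) i).eq

theorem Cz.fpf' (hz : Cz r ρ A z) {c : M} (hc : c ∈ zpowers z) (h1 : c ≠ 1) {v : V}
    (hv : ρ c v = v) : v = 0 := hz.fpf c (hz.zpowers_le hc) (hz.cen' hc) h1 v hv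

theorem Cz.conj_mem [hA : A.Normal] (hz : Cz r ρ A z) (g : M) {c : M} (hc : c ∈ zpowers z) :
    g * c * g⁻¹ ∈ zpowers z := by
  obtain ⟨i, rfl⟩ := hc
  rw [show g * (fun i : ℤ => z ^ i) i * g⁻¹ = (g * z * g⁻¹) ^ i from (conj_zpow).symm]
  refine zpow_mem (hz.om _ (hA.conj_mem z hz.mem g) (fun a ha => ?_) ?_) i
  · have := hz.cen _ (hA.conj_mem a ha g⁻¹)
    rw [inv_inv] at this
    calc a * (g * z * g⁻¹) = g * (g⁻¹ * a * g * z) * g⁻¹ := by group
      _ = g * z * g⁻¹ * a := by rw [this]; group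
  · rw [conj_pow, hz.pow_eq, mul_one, mul_inv_cancel]

theorem Cz.conj_mem_SS [hA : A.Normal] (hz : Cz r ρ A z) (g : M) {x : M} (hx : x ∈ SS r A z) :
    g * x * g⁻¹ ∈ SS r A z := by
  refine ⟨hA.conj_mem x hx.1 g, by rw [conj_pow, hx.2.1, mul_one, mul_inv_cancel], fun a ha => ?_⟩
  have := hz.conj_mem g (hx.2.2 _ (hA.conj_mem a ha g⁻¹))
  convert this using 1
  group

theorem Cz.conj_notMem [hA : A.Normal] (hz : Cz r ρ A z) (g : M) {x : M} (hx : x ∉ zpowers z) :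
    g * x * g⁻¹ ∉ zpowers z := fun h => hx (by
  have := hz.conj_mem g⁻¹ h
  rwa [show g⁻¹ * (g * x * g⁻¹) * g⁻¹⁻¹ = x by group] at this)

theorem Cz.mul_mem_SS (hz : Cz r ρ A z) {x c : M} (hx : x ∈ SS r A z) (hc : c ∈ zpowers z) :
    x * c ∈ SS r A z := by
  have hca := hz.zpowers_le hc
  refine ⟨A.mul_mem hx.1 hca, ?_, fun a ha => ?_⟩
  · rw [Commute.mul_pow (hz.cen' hc x hx.1), hx.2.1, one_mul]
    obtain ⟨i, rfl⟩ := hc
    change (z ^ i) ^ r = 1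
    rw [← zpow_natCast, ← zpow_mul, mul_comm, zpow_mul, zpow_natCast, hz.pow_eq, one_zpow]
  · have := hz.cen' hc _ (A.inv_mem ha)
    rw [show a * (x * c) * a⁻¹ * (x * c)⁻¹ = a * x * (c * a⁻¹) * c⁻¹ * x⁻¹ by group, ← this]
    convert hx.2.2 a ha using 1
    group

/-- An element of `SS` outside `⟨z⟩` is not central in `A`. -/
theorem Cz.exists_not_comm (hz : Cz r ρ A z) {x : M} (hx : x ∈ A) (hr : x ^ r = 1)
    (h1 : x ∉ zpowers z) : ∃ a ∈ A, a * x ≠ x * a := by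
  by_contra hn
  push Not at hn
  exact h1 (hz.om x hx hn hr)

theorem Cz.mem_two (hz : Cz 2 ρ A z) {c : M} : c ∈ zpowers z ↔ c = 1 ∨ c = z := by
  constructor
  · rintro ⟨i, rfl⟩
    have h2 : z ^ (2 : ℤ) = 1 := by exact_mod_cast hz.pow_eq
    rcases Int.even_or_odd' i with ⟨k, rfl | rfl⟩
    · exact Or.inl (by simp only [zpow_mul, h2, one_zpow])
    · exact Or.inr (by simp only [zpow_add, zpow_mul, h2, one_zpow, zpow_one, one_mul])
  · rintro (rfl | rfl)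
    · exact one_mem _
    · exact mem_zpowers _

theorem Cz.neg (hz : Cz 2 ρ A z) (v : V) : ρ z v = -v := by
  rw [eq_neg_iff_add_eq_zero]
  refine hz.fpf' (mem_zpowers z) hz.ne_one ?_
  rw [map_add, ← rep_mul, ← sq, hz.pow_eq, map_one, Module.End.one_apply, add_comm]

theorem Lin.nsmul_eq_zero [Fact p.Prime] [Fact r.Prime] (h : Lin r ρ A R) (k : ℕ) {v : V}
    (hv : (r ^ k) • v = 0) : v = 0 := by
  have h0 : ((r ^ k : ℕ) : ZMod p) ≠ 0 := by
    rw [Ne, ZMod.natCast_eq_zero_iff]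
    intro hd
    exact h.ne ((Nat.prime_dvd_prime_iff_eq Fact.out Fact.out).1
      ((Fact.out : p.Prime).dvd_of_dvd_pow hd)).symm
  rw [← Nat.cast_smul_eq_nsmul (ZMod p)] at hv
  exact (smul_eq_zero.1 hv).resolve_left h0

theorem Lin.eq_zero_of_neg [Fact p.Prime] (h : Lin 2 ρ A R) {v : V} (hv : -v = v) : v = 0 :=
  h.nsmul_eq_zero 1 (by rw [pow_one, two_nsmul]; nth_rewrite 1 [← hv]; exact neg_add_cancel v)

/-- An involution other than `z` has a nonzero fixed vector. -/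
theorem Lin.exists_fixed_two (h : Lin 2 ρ A R) (hz : Cz 2 ρ A z) {x : M} (h2 : x ^ 2 = 1)
    (hx : x ≠ z) : ∃ v, v ≠ 0 ∧ ρ x v = v := by
  by_contra hn
  push Not at hn
  refine hx (h.inj (LinearMap.ext fun v => ?_))
  rw [hz.neg, eq_neg_iff_add_eq_zero]
  by_contra h0
  refine hn _ h0 ?_
  rw [map_add, ← rep_mul, ← sq, h2, map_one, Module.End.one_apply, add_comm]

/-- The centraliser of `S` preserves the fixed space of `S`. -/
theorem fx_inv {S : Set M} {k : M} (hk : ∀ g ∈ S, g * k = k * g) {w : V} (hw : w ∈ fx ρ S) :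
    ρ k w ∈ fx ρ S := fun g hg => by
  rw [← rep_mul, hk g hg, rep_mul, hw g hg]

/-- Three conjugates of `W` with independent sum. -/
theorem cube_le [Finite V] (W : Submodule (ZMod p) V) (a b : M)
    (h : ∀ u ∈ W, ∀ v ∈ W, ∀ w ∈ W, u + ρ a v + ρ b w = 0 → v = 0 ∧ w = 0) :
    Nat.card W ^ 3 ≤ Nat.card V := by
  rw [show Nat.card W ^ 3 = Nat.card (W × W × W) by simp only [Nat.card_prod]; ring]
  refine Nat.card_le_card_of_injective (fun t => t.1.1 + ρ a t.2.1.1 + ρ b t.2.2.1) ?_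
  rintro ⟨u, v, w⟩ ⟨u', v', w'⟩ e
  have e1 : (u.1 - u'.1) + ρ a (v.1 - v'.1) + ρ b (w.1 - w'.1) = 0 := by
    have e' : u.1 + ρ a v.1 + ρ b w.1 = u'.1 + ρ a v'.1 + ρ b w'.1 := e
    rw [map_sub, map_sub, ← sub_eq_zero.2 e']
    abel
  obtain ⟨h1, h2⟩ := h _ (W.sub_mem u.2 u'.2) _ (W.sub_mem v.2 v'.2) _ (W.sub_mem w.2 w'.2) e1
  rw [h1, h2, map_zero, map_zero, add_zero, add_zero] at e1
  exact Prod.ext (Subtype.ext (sub_eq_zero.1 e1))
    (Prod.ext (Subtype.ext (sub_eq_zero.1 h1)) (Subtype.ext (sub_eq_zero.1 h2)))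

end Cfsg.Agent.DerG
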